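import Cfsg.Agent.Lib.PresSL2.Model
import Cfsg.Agent.Lib.Classical.LinearCard

/-! Short presentations of `SL₂(q)` and `PSL₂(q)`. -/

set_option autoImplicit false

open Matrix Polynomial

namespace Cfsg.Agent.Lib.PresSL2

variable {F : Type*} [Field F] [Fintype F]

theorem forall_append {α : Type*} {l₁ l₂ : List α} {P : α → Prop} (h : ∀ x ∈ l₁ ++ l₂, P x) :
    (∀ x ∈ l₁, P x) ∧ ∀ x ∈ l₂, P x :=
  List.forall_mem_append.mp h

theorem card_SL_bound : (Fintype.card F - 1) * (Fintype.card F * (Fintype.card F + 1)) =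
    Fintype.card F * (Fintype.card F ^ 2 - 1) := by
  rw [show Fintype.card F ^ 2 - 1 = (Fintype.card F + 1) * (Fintype.card F - 1) by
    rw [← Nat.sq_sub_sq]]
  ring

theorem presentations_odd {p : ℕ} [Fact p.Prime] [CharP F p] (hp : p ≠ 2) :
    (∃ rels : Finset (FreeGroup (Fin 3)), rels.card ≤ 9 ∧ Nonempty (PresentedGroup (↑rels : Set (FreeGroup (Fin 3))) ≃* Matrix.SpecialLinearGroup (Fin 2) F)) ∧
    (∃ rels : Finset (FreeGroup (Fin 3)), rels.card ≤ 9 ∧ Nonempty (PresentedGroup (↑rels : Set (FreeGroup (Fin 3))) ≃* Matrix.ProjectiveSpecialLinearGroup (Fin 2) F)) := by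
  classical
  letI : Algebra (ZMod p) F := ZMod.algebra F p
  obtain ⟨l, hl⟩ := IsCyclic.exists_generator (α := Fˣ)
  have hord : orderOf l = Fintype.card F - 1 := by
    rw [orderOf_eq_card_of_forall_mem_zpowers hl, Nat.card_units, Nat.card_eq_fintype_card]
  have hq2 : Fintype.card F % 2 = 1 := by
    apply FiniteField.odd_card_of_char_ne_two
    rwa [ringChar.eq F p]
  obtain ⟨N, hN⟩ : ∃ N, Fintype.card F = 2 * N + 1 := ⟨Fintype.card F / 2, by omega⟩
  have hNpos : 0 < N := by have := Fintype.one_lt_card (α := F); omega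
  have hordN : orderOf l = 2 * N := by omega
  set a : F := (l : F) ^ 2 with ha
  have ha0 : a ≠ 0 := pow_ne_zero _ l.ne_zero
  have hinj : ∀ i < N, ∀ j < N, a ^ i = a ^ j → i = j := by
    intro i hi j hj e
    rw [ha, ← pow_mul, ← pow_mul] at e
    have e' : l ^ (2 * i) = l ^ (2 * j) := Units.ext (by rw [Units.val_pow_eq_pow_val, Units.val_pow_eq_pow_val]; exact e)
    have := pow_injOn_Iio_orderOf (x := l) (by rw [Set.mem_Iio]; omega) (by rw [Set.mem_Iio]; omega) e'
    omega
  have hsurj := aeval_surjective (p := p) N (by omega) hinj ha0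
  have hlN : (l ^ N : Fˣ) = -1 := by
    have e2 : ((l ^ N : Fˣ) : F) ^ 2 = 1 := by
      rw [← Units.val_pow_eq_pow_val, ← pow_mul, mul_comm, ← hordN, pow_orderOf_eq_one, Units.val_one]
    rcases sq_eq_one_iff.mp e2 with h | h
    · exact absurd (Units.ext h : l ^ N = 1) (fun h1 => by
        have := orderOf_dvd_of_pow_eq_one h1
        have := Nat.le_of_dvd hNpos this
        omega)
    · exact Units.ext (by rw [h, Units.val_neg, Units.val_one])
  have hlog : ∀ x : F, x ≠ 0 → ∃ m : ℕ, x = (l : F) ^ m := fun x hx => by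
    obtain ⟨m, hm⟩ := (isOfFinOrder_of_finite l).mem_powers_iff_mem_zpowers.mpr (hl (Units.mk0 x hx))
    exact ⟨m, by simpa using (congrArg Units.val hm).symm⟩
  have hlNF : (l : F) ^ N = -1 := by rw [← Units.val_pow_eq_pow_val, hlN, Units.val_neg, Units.val_one]
  have hcoverY : ∀ x : F, x ≠ 0 → ∃ i : ℕ, x = a ^ i ∨ x = a ^ i * ((l⁻¹ : Fˣ) : F) := fun x hx => by
    obtain ⟨m, rfl⟩ := hlog x hx
    rcases Nat.even_or_odd' m with ⟨i, rfl | rfl⟩
    · exact ⟨i, Or.inl (pow_mul _ _ _)⟩
    · refine ⟨i + 1, Or.inr ?_⟩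
      rw [ha, ← pow_mul, show 2 * (i + 1) = 2 * i + 1 + 1 by ring, pow_succ _ (2 * i + 1), mul_assoc,
        ← Units.val_mul, mul_inv_cancel, Units.val_one, mul_one]
  -- the linear relation
  obtain ⟨k, b, hk⟩ : ∃ (k : ℕ) (b : Bool), if b then a = -1 else a ^ k = (a + 1) ^ 2 := by
    rcases eq_or_ne (a + 1) 0 with h | h
    · exact ⟨0, true, by rw [if_pos rfl]; exact eq_neg_of_add_eq_zero_left h⟩
    · obtain ⟨m, hm⟩ := hlog _ h
      exact ⟨m, false, by rw [if_neg Bool.false_ne_true, hm, ha, ← pow_mul, ← pow_mul, mul_comm]⟩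
  obtain ⟨cs, hcs⟩ := exists_horner (minpoly (ZMod p) a)
  have hdvd : ∀ P, aeval a P = 0 → minpoly (ZMod p) a ∣ P := fun P hP => minpoly.dvd _ _ hP
  have hcsF : horner a cs = 0 := by
    have e := map_horner (aeval a : (ZMod p)[X] →ₐ[ZMod p] F).toRingHom X cs
    rw [hcs] at e
    simpa using e.symm
  obtain ⟨cx, hcx⟩ := exists_list_horner hsurj (l : F)
  obtain ⟨cy, hcy⟩ := exists_list_horner hsurj ((l⁻¹ : Fˣ) : F)
  set u₀ := FreeGroup.of (0 : Fin 3)
  set h₀ := FreeGroup.of (1 : Fin 3)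
  set t₀ := FreeGroup.of (2 : Fin 3)
  have hgen : Subgroup.closure {mU F 1, mD F l, mT F} = ⊤ := generate hl hsurj
  have hDN : mD F l ^ N = mD F (-1) := by rw [← mD_pow, hlN]
  refine ⟨?_, ?_⟩
  · refine presentation 9 (borelRels u₀ h₀ p k b cs ++ slRels u₀ h₀ t₀ (polyWord u₀ h₀ cx) (polyWord u₀ h₀ cy) N)
      (by simp [borelRels, slRels]) hgen ?_ ?_
    · rw [List.map_append, map_borelRels, map_slRels, List.forall_mem_append]
      simp only [map_polyWord, u₀, h₀, t₀, FreeGroup.lift_apply_of, Matrix.cons_val_zero, Matrix.cons_val_one, Matrix.cons_val]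
      refine ⟨borelRels_sat (borel_model l) hk hcsF, ?_⟩
      simp only [slRels, List.forall_mem_cons, (borel_model l).polyWord]
      rw [← ha, hcx, hcy, hDN, mT_mul_mT, mul_inv_cancel, mD_mT, mW_one, mW, mul_inv_cancel]
      exact ⟨rfl, rfl, rfl, rfl, by simp⟩
    · intro G _ u h t hg hr
      rw [List.map_append, map_borelRels, map_slRels] at hr
      simp only [map_polyWord, u₀, h₀, t₀, FreeGroup.lift_apply_of, Matrix.cons_val_zero, Matrix.cons_val_one, Matrix.cons_val] at hr
      obtain ⟨hr1, hr2⟩ := forall_append hr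
      obtain ⟨f, B⟩ := borelRels_data hr1 hsurj hdvd hcs
      rw [B.polyWord, B.polyWord, hcx, hcy] at hr2
      obtain ⟨h1, h2⟩ := sl_bound B hNpos hg hr2 hcoverY
      refine ⟨h1, h2.trans (le_of_eq ?_)⟩
      rw [Cfsg.Agent.Lib.Classical.card_SL2, ← card_SL_bound, show Fintype.card F - 1 = 2 * N by omega]
  · have hcardP : Nat.card (ProjectiveSpecialLinearGroup (Fin 2) F) = N * (Fintype.card F * (Fintype.card F + 1)) := by
      have e := Cfsg.Agent.Lib.Classical.card_PSL2_mul (F := F)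
      rw [show Nat.gcd 2 (Fintype.card F - 1) = 2 from Nat.gcd_eq_left ⟨N, by omega⟩, ← card_SL_bound,
        show Fintype.card F - 1 = 2 * N by omega, mul_assoc] at e
      exact Nat.eq_of_mul_eq_mul_left two_pos e
    set π := QuotientGroup.mk' (Subgroup.center (SpecialLinearGroup (Fin 2) F)) with hπ
    have hgenP : Subgroup.closure {π (mU F 1), π (mD F l), π (mT F)} = ⊤ := by
      have e : π '' {mU F 1, mD F l, mT F} = {π (mU F 1), π (mD F l), π (mT F)} := by simp [Set.image_insert_eq]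
      rw [← e, ← MonoidHom.map_closure, hgen, ← MonoidHom.range_eq_map]
      exact MonoidHom.range_eq_top.mpr (QuotientGroup.mk'_surjective _)
    have hπ1 : π (mD F (-1)) = 1 := (QuotientGroup.eq_one_iff _).mpr mD_neg_one_mem_center
    have hπN : π (mD F l) ^ N = 1 := by rw [← map_pow, hDN, hπ1]
    have hπT : π (mT F) * π (mT F) = 1 := by rw [← map_mul, mT_mul_mT, hπ1]
    have hπ7 : π (mD F l) * π (mT F) * (π (mD F l) * π (mT F)) = 1 := by
      rw [← map_mul, ← map_mul, show mD F l * mT F * (mD F l * mT F) =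
        (mD F l * mT F * mD F l * (mT F)⁻¹) * (mT F * mT F) by group, mD_mT, one_mul, mT_mul_mT, hπ1]
    have hπ8 : π (mU F 1) * π (mT F) * π (mU F 1) * π (mT F) * π (mU F 1) * π (mT F) = 1 := by
      simp only [← map_mul, mW_one, map_one]
    have hπ9 : π (mU F (l : F)) * π (mT F) * π (mU F ((l⁻¹ : Fˣ) : F)) * π (mT F) * π (mU F (l : F)) * π (mT F) =
        π (mD F l) := by
      simp only [← map_mul, mW]
    have BP := (borel_model l).map π
    rcases Nat.even_or_odd' N with ⟨i, hi | hi⟩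
    · have hai : a ^ i = -1 := by rw [ha, ← pow_mul, ← hi, hlNF]
      obtain ⟨e, e', he⟩ : ∃ e e' : ℕ, (2 * e : ℤ) - 3 * i - 6 = 1 ∨ (2 * e' : ℤ) - 3 * i - 7 = 1 := by
        rcases Nat.even_or_odd' i with ⟨m, rfl | rfl⟩
        · exact ⟨0, 3 * m + 4, Or.inr (by push_cast; ring)⟩
        · exact ⟨3 * m + 5, 0, Or.inl (by push_cast; ring)⟩
      refine presentation 9
        (borelRels u₀ h₀ p k b cs ++ pslRelsB u₀ h₀ t₀ (polyWord u₀ h₀ cx) (polyWord u₀ h₀ cy) N e e')
        (by simp [borelRels, pslRelsB]) hgenP ?_ ?_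
      · rw [List.map_append, map_borelRels, map_pslRelsB, List.forall_mem_append]
        simp only [map_polyWord, u₀, h₀, t₀, FreeGroup.lift_apply_of, Matrix.cons_val_zero, Matrix.cons_val_one, Matrix.cons_val]
        refine ⟨borelRels_sat BP hk hcsF, ?_⟩
        simp only [pslRelsB, List.forall_mem_cons, BP.polyWord, Function.comp_apply]
        rw [← ha, hcx, hcy, hπN, hπT, one_pow, one_pow, mul_one (π (mD F l)), hπ7, hπ8, hπ9, mul_inv_cancel]
        exact ⟨by simp, by simp, by simp, by simp, by simp⟩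
      · intro G _ u h t hg hr
        rw [List.map_append, map_borelRels, map_pslRelsB] at hr
        simp only [map_polyWord, u₀, h₀, t₀, FreeGroup.lift_apply_of, Matrix.cons_val_zero, Matrix.cons_val_one, Matrix.cons_val] at hr
        obtain ⟨hr1, hr2⟩ := forall_append hr
        obtain ⟨f, B⟩ := borelRels_data hr1 hsurj hdvd hcs
        rw [B.polyWord, B.polyWord, hcx, hcy] at hr2
        rw [hcardP]
        exact pslB_bound B hi hNpos hai hg hr2 he hcoverY
    · have hcoverM : ∀ x : F, x ≠ 0 → ∃ j : ℕ, x = a ^ j ∨ x = a ^ j * -1 := fun x hx => by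
        obtain ⟨m, rfl⟩ := hlog x hx
        rcases Nat.even_or_odd' m with ⟨j, rfl | rfl⟩
        · exact ⟨j, Or.inl (pow_mul _ _ _)⟩
        · refine ⟨j + i + 1, Or.inr ?_⟩
          rw [ha, ← pow_mul, ← hlNF, ← pow_add, show 2 * (j + i + 1) + N = (2 * j + 1) + orderOf l by omega, pow_add _ (2 * j + 1) (orderOf l)]
          rw [← Units.val_pow_eq_pow_val l (orderOf l), pow_orderOf_eq_one, Units.val_one, mul_one]
      refine presentation 9 (borelRels u₀ h₀ p k b cs ++ pslRelsA u₀ h₀ t₀ N)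
        (by simp [borelRels, pslRelsA]) hgenP ?_ ?_
      · rw [List.map_append, map_borelRels, map_pslRelsA, List.forall_mem_append]
        simp only [u₀, h₀, t₀, FreeGroup.lift_apply_of, Matrix.cons_val_zero, Matrix.cons_val_one, Matrix.cons_val]
        refine ⟨borelRels_sat BP hk hcsF, ?_⟩
        simp only [pslRelsA, List.forall_mem_cons]
        exact ⟨hπN, hπT, hπ7, hπ8, by simp⟩
      · intro G _ u h t hg hr
        rw [List.map_append, map_borelRels, map_pslRelsA] at hr
        simp only [u₀, h₀, t₀, FreeGroup.lift_apply_of, Matrix.cons_val_zero, Matrix.cons_val_one, Matrix.cons_val] at hr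
        obtain ⟨hr1, hr2⟩ := forall_append hr
        obtain ⟨f, B⟩ := borelRels_data hr1 hsurj hdvd hcs
        rw [hcardP]
        exact pslA_bound B hNpos hg hr2 hcoverM

theorem char_two_five [CharP F 2] :
    ∃ rels : Finset (FreeGroup (Fin 3)), rels.card ≤ 5 ∧ Nonempty (PresentedGroup (↑rels : Set (FreeGroup (Fin 3))) ≃* Matrix.SpecialLinearGroup (Fin 2) F) := by
  classical
  haveI : Fact (Nat.Prime 2) := ⟨Nat.prime_two⟩
  letI : Algebra (ZMod 2) F := ZMod.algebra F 2
  obtain ⟨n, -, hn⟩ := FiniteField.card F 2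
  obtain ⟨l, hl⟩ := IsCyclic.exists_generator (α := Fˣ)
  have hord : orderOf l = Fintype.card F - 1 := by
    rw [orderOf_eq_card_of_forall_mem_zpowers hl, Nat.card_units, Nat.card_eq_fintype_card]
  obtain ⟨M, hMq⟩ : ∃ M, Fintype.card F = M + 1 := ⟨Fintype.card F - 1, by have := Fintype.one_lt_card (α := F); omega⟩
  have hM0 : 0 < M := by have := Fintype.one_lt_card (α := F); omega
  have hordM : orderOf l = M := by omega
  have hpow : Fintype.card F = 2 ^ (n : ℕ) := hn
  have hModd : M % 2 = 1 := by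
    have : Fintype.card F % 2 = 0 := by rw [hpow]; simp [Nat.pow_mod, PNat.ne_zero]
    omega
  set a : F := (l : F) ^ 2 with ha
  have ha0 : a ≠ 0 := pow_ne_zero _ l.ne_zero
  have haord : ∀ i, a ^ i = 1 → M ∣ i := fun i e => by
    rw [ha, ← pow_mul, ← Units.val_pow_eq_pow_val, Units.val_eq_one] at e
    have := orderOf_dvd_of_pow_eq_one e
    rw [hordM] at this
    exact (Nat.Coprime.dvd_mul_left (Nat.coprime_two_right.mpr (Nat.odd_iff.mpr hModd))).mp this
  have hinj : ∀ i < M, ∀ j < M, a ^ i = a ^ j → i = j := by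
    intro i hi j hj e
    rcases Nat.le_total i j with hij | hij
    · have h1 : a ^ (j - i) = 1 := by
        apply mul_left_cancel₀ (pow_ne_zero i ha0); rw [← pow_add, show i + (j - i) = j by omega, mul_one, e]
      have := Nat.eq_zero_of_dvd_of_lt (haord _ h1) (by omega); omega
    · have h1 : a ^ (i - j) = 1 := by
        apply mul_left_cancel₀ (pow_ne_zero j ha0); rw [← pow_add, show j + (i - j) = i by omega, mul_one, e]
      have := Nat.eq_zero_of_dvd_of_lt (haord _ h1) (by omega); omega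
  have hsurj := aeval_surjective (p := 2) M (by omega) hinj ha0
  have hcover : ∀ x : F, x ≠ 0 → ∃ i : ℕ, x = a ^ i := fun x hx => by
    obtain ⟨m, hm⟩ := (isOfFinOrder_of_finite l).mem_powers_iff_mem_zpowers.mpr (hl (Units.mk0 x hx))
    have hm' : x = (l : F) ^ m := by simpa using (congrArg Units.val hm).symm
    rcases Nat.even_or_odd' m with ⟨i, rfl | rfl⟩
    · exact ⟨i, by rw [hm', ha, pow_mul]⟩
    · refine ⟨i + (M + 1) / 2, ?_⟩
      rw [hm', ha, ← pow_mul, show 2 * (i + (M + 1) / 2) = 2 * i + 1 + orderOf l by omega, pow_add _ (2 * i + 1),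
        ← Units.val_pow_eq_pow_val l (orderOf l), pow_orderOf_eq_one, Units.val_one, mul_one]
  set u₀ := FreeGroup.of (0 : Fin 3)
  set h₀ := FreeGroup.of (1 : Fin 3)
  set t₀ := FreeGroup.of (2 : Fin 3)
  have hgen : Subgroup.closure {mU F 1, mD F l, mT F} = ⊤ := generate hl hsurj
  have hT : mT F * mT F = 1 := by
    rw [mT_mul_mT, show (-1 : Fˣ) = 1 from Units.ext (CharTwo.neg_eq (1 : F))]
    exact (mD_pow (1 : Fˣ) 0).trans (pow_zero _) |> fun h => by simpa using h
  have hU : mU F 1 * mU F 1 = 1 := by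
    rw [← mU_add, CharTwo.add_self_eq_zero, (borel_model l).zero]
  have hDM : mD F l ^ M = 1 := by
    rw [← mD_pow, ← hordM, pow_orderOf_eq_one, ← pow_zero l, mD_pow, pow_zero]
  have hcard : (M * (Fintype.card F * (Fintype.card F + 1))) = Nat.card (SpecialLinearGroup (Fin 2) F) := by
    rw [Cfsg.Agent.Lib.Classical.card_SL2, ← card_SL_bound, show Fintype.card F - 1 = M by omega]
  rcases (show (n : ℕ) = 1 ∨ (n : ℕ) = 2 ∨ 3 ≤ (n : ℕ) by have := n.pos; omega) with hn1 | hn2 | hn3
  · have hM1 : M = 1 := by rw [hn1] at hpow; omega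
    have ha1 : a = 1 := by
      have h1 : orderOf l = 1 := by omega
      rw [orderOf_eq_one_iff.mp h1] at ha; simpa using ha
    have hD1 : mD F l = 1 := by rw [hM1, pow_one] at hDM; exact hDM
    refine presentation 5 (twoRels u₀ h₀ t₀) (by simp [twoRels]) hgen ?_ ?_
    · rw [map_twoRels]
      simp only [u₀, h₀, t₀, FreeGroup.lift_apply_of, Matrix.cons_val_zero, Matrix.cons_val_one, Matrix.cons_val]
      simp only [twoRels, List.forall_mem_cons]
      rw [hU, mW_one, hT, mD_mT]
      exact ⟨rfl, hD1, by simp, rfl, by simp⟩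
    · intro G _ u h t hg hr
      rw [map_twoRels] at hr
      simp only [u₀, h₀, t₀, FreeGroup.lift_apply_of, Matrix.cons_val_zero, Matrix.cons_val_one, Matrix.cons_val] at hr
      have := twoRels_bound (p := 2) rfl ha1 hr hg hsurj hcover
      rw [← hcard, hM1]
      exact this
  · have hM3 : M = 3 := by rw [hn2] at hpow; omega
    have ha3 : a ^ 3 = 1 := by
      rw [ha, ← pow_mul, mul_comm, ← hM3, ← hordM, pow_mul, ← Units.val_pow_eq_pow_val l (orderOf l),
        pow_orderOf_eq_one, Units.val_one, one_pow]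
    have ha1 : a ≠ 1 := fun e => by have := haord 1 (by rw [pow_one, e]); rw [hM3] at this; omega
    have hq : a ^ 2 + a + 1 = 0 := by
      have : (a - 1) * (a ^ 2 + a + 1) = 0 := by ring_nf; rw [ha3]; ring
      exact (mul_eq_zero.mp this).resolve_left (sub_ne_zero.mpr ha1)
    have hdvd : ∀ P, aeval a P = 0 → (X ^ 2 + X + 1 : (ZMod 2)[X]) ∣ P := by
      intro P hP
      set m : (ZMod 2)[X] := X ^ 2 + X + 1 with hm
      have hmon : m.Monic := by rw [hm]; monicity!
      have hdeg : m.natDegree = 2 := by rw [hm]; compute_degree!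
      rw [← Polynomial.modByMonic_eq_zero_iff_dvd hmon]
      set R := P %ₘ m with hR
      have hRdeg : R.natDegree ≤ 1 := by
        have := Polynomial.natDegree_modByMonic_lt P hmon (fun h1 => by rw [h1, natDegree_one] at hdeg; omega)
        rw [hR]; omega
      have hR0 : aeval a R = 0 := by
        rw [hR, Polynomial.modByMonic_eq_sub_mul_div P m, map_sub, map_mul, hP, hm]
        simp [hq]
      rw [Polynomial.eq_X_add_C_of_natDegree_le_one hRdeg] at hR0 ⊢
      simp only [map_add, map_mul, aeval_X, aeval_C] at hR0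
      have hz : ∀ c : ZMod 2, c = 0 ∨ c = 1 := by
        intro c; fin_cases c
        · exact Or.inl rfl
        · exact Or.inr rfl
      rcases hz (R.coeff 1) with h1 | h1 <;> rcases hz (R.coeff 0) with h0 | h0 <;> rw [h1, h0] at hR0 ⊢
      · simp
      · simp at hR0
      · simp [ha0] at hR0
      · rw [map_one, one_mul] at hR0
        exact absurd (by rw [← CharTwo.neg_eq (1 : F)]; exact eq_neg_of_add_eq_zero_left hR0) ha1
    refine presentation 5 (fourRels u₀ h₀ t₀) (by simp [fourRels]) hgen ?_ ?_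
    · rw [map_fourRels]
      simp only [u₀, h₀, t₀, FreeGroup.lift_apply_of, Matrix.cons_val_zero, Matrix.cons_val_one, Matrix.cons_val]
      simp only [fourRels, List.forall_mem_cons]
      rw [hU, ← hM3, hDM, mW_one, hT, mD_mT]
      refine ⟨rfl, rfl, by simp, rfl, ?_, by simp⟩
      rw [mul_inv_eq_one, cj, cj, (borel_model l).conj_pow', (borel_model l).conj_pow', ← mU_add]
      congr 1
      rw [← ha, pow_one]
      linear_combination hq - (1 + a) * CharTwo.two_eq_zero (R := F)
    · intro G _ u h t hg hr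
      rw [map_fourRels] at hr
      simp only [u₀, h₀, t₀, FreeGroup.lift_apply_of, Matrix.cons_val_zero, Matrix.cons_val_one, Matrix.cons_val] at hr
      have := fourRels_bound (p := 2) rfl hr hg hsurj hdvd hcover
      rw [← hcard, hM3]
      exact this
  · have hM7 : 7 ≤ M := by
      have : 2 ^ 3 ≤ 2 ^ (n : ℕ) := Nat.pow_le_pow_right two_pos hn3
      omega
    have hsmall : ∀ i, 0 < i → i < M → a ^ i ≠ 1 := fun i h0 h1 e => by
      have := Nat.le_of_dvd h0 (haord i e); omega
    have n1 : 1 + a ≠ 0 := fun e => hsmall 1 one_pos (by omega) (by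
      rw [pow_one]; linear_combination e - CharTwo.two_eq_zero (R := F))
    have n2 : 1 + a ^ 2 ≠ 0 := fun e => hsmall 2 two_pos (by omega) (by
      linear_combination e - CharTwo.two_eq_zero (R := F))
    have n12 : a + a ^ 2 ≠ 0 := fun e => n1 ((mul_eq_zero.mp (show a * (1 + a) = 0 by linear_combination e)).resolve_left ha0)
    have n012 : 1 + (a + a ^ 2) ≠ 0 := fun e => hsmall 3 (by omega) (by omega) (by
      linear_combination (a - 1) * e)
    obtain ⟨k, hk⟩ := hcover (1 + a) n1
    obtain ⟨cs, hcs⟩ := exists_horner (minpoly (ZMod 2) a)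
    have hdvd : ∀ P, aeval a P = 0 → minpoly (ZMod 2) a ∣ P := fun P hP => minpoly.dvd _ _ hP
    have hcsF : horner a cs = 0 := by
      have e := map_horner (aeval a : (ZMod 2)[X] →ₐ[ZMod 2] F).toRingHom X cs
      rw [hcs] at e
      simpa using e.symm
    refine presentation 5 (evenRels u₀ h₀ t₀ M k cs) (by simp [evenRels]) hgen ?_ ?_
    · rw [map_evenRels]
      simp only [u₀, h₀, t₀, FreeGroup.lift_apply_of, Matrix.cons_val_zero, Matrix.cons_val_one, Matrix.cons_val]
      simp only [evenRels, List.forall_mem_cons]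
      rw [hU, hDM, mW_one, hT, mD_mT, (borel_model l).polyWord, ← ha, hcsF, (borel_model l).zero]
      refine ⟨by simp, by simp, rfl, ?_, rfl, by simp⟩
      rw [mul_inv_eq_one, cj, cj, (borel_model l).conj_pow', (borel_model l).conj_pow', ← mU_add, ← ha, pow_one, hk]
    · intro G _ u h t hg hr
      rw [map_evenRels] at hr
      simp only [u₀, h₀, t₀, FreeGroup.lift_apply_of, Matrix.cons_val_zero, Matrix.cons_val_one, Matrix.cons_val] at hr
      have := evenRels_bound (p := 2) rfl hM0 hr hg hsurj hdvd hcs hcover ⟨⟨n1, n2, n12⟩, n012⟩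
      rw [← hcard]
      exact this

theorem presentations_main :
    (∃ rels : Finset (FreeGroup (Fin 3)), rels.card ≤ 9 ∧ Nonempty (PresentedGroup (↑rels : Set (FreeGroup (Fin 3))) ≃* Matrix.SpecialLinearGroup (Fin 2) F)) ∧
    (∃ rels : Finset (FreeGroup (Fin 3)), rels.card ≤ 9 ∧ Nonempty (PresentedGroup (↑rels : Set (FreeGroup (Fin 3))) ≃* Matrix.ProjectiveSpecialLinearGroup (Fin 2) F)) ∧
    (CharP F 2 → ∃ rels : Finset (FreeGroup (Fin 3)), rels.card ≤ 5 ∧ Nonempty (PresentedGroup (↑rels : Set (FreeGroup (Fin 3))) ≃* Matrix.ProjectiveSpecialLinearGroup (Fin 2) F)) := by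
  obtain ⟨p, hp⟩ := CharP.exists F
  haveI : Fact p.Prime := ⟨CharP.char_is_prime F p⟩
  by_cases h2 : p = 2
  · subst h2
    obtain ⟨rels, hc, ⟨e⟩⟩ := char_two_five (F := F)
    have hq : Nat.gcd 2 (Fintype.card F - 1) = 1 := by
      obtain ⟨n, -, hn⟩ := FiniteField.card F 2
      rw [hn]
      have h1 : 2 ^ (n : ℕ) % 2 = 0 := by simp [Nat.pow_mod, PNat.ne_zero]
      have h2 : 1 ≤ 2 ^ (n : ℕ) := Nat.one_le_two_pow
      rw [Nat.gcd_rec, show (2 ^ (n : ℕ) - 1) % 2 = 1 by omega]; rfl
    have hc1 : Nat.card (Subgroup.center (SpecialLinearGroup (Fin 2) F)) = 1 := by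
      rw [Cfsg.Agent.Lib.Classical.card_center_SL, Fintype.card_fin, hq]
    have hbot : Subgroup.center (SpecialLinearGroup (Fin 2) F) = ⊥ := Subgroup.card_eq_one.mp hc1
    let e2 : ProjectiveSpecialLinearGroup (Fin 2) F ≃* SpecialLinearGroup (Fin 2) F :=
      (QuotientGroup.quotientMulEquivOfEq hbot).trans QuotientGroup.quotientBot
    exact ⟨⟨rels, hc.trans (by norm_num), ⟨e⟩⟩, ⟨rels, hc.trans (by norm_num), ⟨e.trans e2.symm⟩⟩,
      fun _ => ⟨rels, hc, ⟨e.trans e2.symm⟩⟩⟩
  · obtain ⟨a, b⟩ := presentations_odd (F := F) h2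
    exact ⟨a, b, fun h => absurd (CharP.eq F hp h) h2⟩

end Cfsg.Agent.Lib.PresSL2
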