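import Cfsg.Agent.Lib.PresSL2.NormalForm

/-! Presenting the Borel subgroup with few relations (after Campbell, Robertson and Williams). -/

set_option autoImplicit false

open Polynomial

namespace Cfsg.Agent.Lib.PresSL2

variable {G : Type*} [Group G]

/-- The `i`-th conjugate of `u` by `h`. -/
def cj (u h : G) (i : ℕ) : G := h ^ i * u * (h ^ i)⁻¹

theorem cj_zero (u h : G) : cj u h 0 = u := by simp [cj]

theorem cj_shift (u h : G) (k i : ℕ) : MulAut.conj (h ^ k) (cj u h i) = cj u h (k + i) := by
  simp only [MulAut.conj_apply, cj, pow_add]; group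

theorem map_cj {H : Type*} [Group H] (φ : G →* H) (u h : G) (i : ℕ) : φ (cj u h i) = cj (φ u) (φ h) i := by
  simp [cj]

theorem commute_shift {u h : G} {i j : ℕ} (e : Commute (cj u h i) (cj u h j)) (k : ℕ) :
    Commute (cj u h (k + i)) (cj u h (k + j)) := by
  rw [← cj_shift, ← cj_shift]
  exact Commute.map e (MulAut.conj (h ^ k)).toMonoidHom

theorem comm_all_one {u h : G} {k : ℕ} (hk : cj u h k = u * cj u h 1) (h1 : Commute u (cj u h 1)) :
    ∀ i, Commute u (cj u h i) := by
  suffices H : ∀ n, ∀ i ≤ n, Commute u (cj u h i) from fun i => H i i le_rfl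
  intro n
  induction n with
  | zero => intro i hi; rw [Nat.le_zero.mp hi, cj_zero]
  | succ n ih =>
    intro i hi
    rcases Nat.lt_or_ge i (n + 1) with hl | hl
    · exact ih i (by omega)
    rw [show i = n + 1 by omega]
    rcases Nat.eq_zero_or_pos n with rfl | hn
    · exact h1
    set w := cj u h n * cj u h (n + 1) with hw
    have hkn : cj u h (k + n) = w := by
      rw [← cj_shift, show cj u h n = MulAut.conj (h ^ n) (cj u h 0) by rw [cj_shift, add_zero]]
      rw [cj_shift, cj_shift, add_zero, hw]
      have := congrArg (MulAut.conj (h ^ n)) hk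
      rw [map_mul, cj_shift, ← cj_zero u h, cj_shift, cj_shift, cj_zero, add_comm n k, add_zero] at this
      exact this
    have hA : Commute (u * cj u h 1) w := by
      rw [← hk, ← hkn]
      simpa using commute_shift (show Commute (cj u h 0) (cj u h n) by rw [cj_zero]; exact ih n le_rfl) k
    have hB : Commute (cj u h 1) w := by
      refine Commute.mul_right ?_ ?_
      · have := commute_shift (show Commute (cj u h 0) (cj u h (n - 1)) by rw [cj_zero]; exact ih _ (by omega)) 1
        rwa [show 1 + (n - 1) = n by omega] at this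
      · have := commute_shift (show Commute (cj u h 0) (cj u h n) by rw [cj_zero]; exact ih _ le_rfl) 1
        rwa [add_comm 1 n] at this
    have hu : Commute u w := by
      have := hA.mul_left hB.inv_left
      simpa using this
    have := (ih n le_rfl).inv_right.mul_right hu
    simpa [hw] using this

theorem comm_all_two {u h : G} {k : ℕ} (hk : cj u h k = u * (cj u h 1 * cj u h 1) * cj u h 2)
    (h1 : Commute u (cj u h 1)) (h2 : Commute u (cj u h 2)) : ∀ i, Commute u (cj u h i) := by
  suffices H : ∀ n, ∀ i ≤ n, Commute u (cj u h i) from fun i => H i i le_rfl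
  intro n
  induction n with
  | zero => intro i hi; rw [Nat.le_zero.mp hi, cj_zero]
  | succ n ih =>
    intro i hi
    rcases Nat.lt_or_ge i (n + 1) with hl | hl
    · exact ih i (by omega)
    rw [show i = n + 1 by omega]
    rcases Nat.lt_or_ge n 2 with hn | hn
    · interval_cases n
      · exact h1
      · exact h2
    have base : ∀ i j : ℕ, i ≤ j → j ≤ i + n → Commute (cj u h i) (cj u h j) := by
      intro i j hij hj
      have := commute_shift (show Commute (cj u h 0) (cj u h (j - i)) by rw [cj_zero]; exact ih _ (by omega)) i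
      rwa [add_zero, show i + (j - i) = j by omega] at this
    set v := cj u h (n - 1) * (cj u h n * cj u h n) with hv
    set w := v * cj u h (n + 1) with hw
    have hkn : cj u h (k + (n - 1)) = w := by
      have := congrArg (MulAut.conj (h ^ (n - 1))) hk
      rw [map_mul, map_mul, map_mul, ← cj_zero u h, cj_shift, cj_shift, cj_shift, cj_shift, cj_zero,
        add_comm (n - 1) k, add_zero, show n - 1 + 1 = n by omega, show n - 1 + 2 = n + 1 by omega] at this
      exact this
    set r := (cj u h 1 * cj u h 1) * cj u h 2 with hr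
    have hk' : cj u h k = u * r := by rw [hk, hr, mul_assoc]
    have hA : Commute (u * r) w := by
      rw [← hk', ← hkn]
      simpa using base k (k + (n - 1)) (by omega) (by omega)
    have hB : ∀ j, 1 ≤ j → j ≤ 2 → Commute (cj u h j) w := by
      intro j hj1 hj2
      refine ((Commute.mul_right ?_ (Commute.mul_right ?_ ?_))).mul_right ?_
      · rcases Nat.lt_or_ge (n - 1) j with hc | hc
        · exact (base (n - 1) j (by omega) (by omega)).symm
        · exact base j (n - 1) hc (by omega)
      · exact base j n (by omega) (by omega)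
      · exact base j n (by omega) (by omega)
      · exact base j (n + 1) (by omega) (by omega)
    have hu : Commute u w := by
      have := hA.mul_left (((hB 1 le_rfl (by omega)).mul_left (hB 1 le_rfl (by omega))).mul_left
        (hB 2 (by omega) le_rfl)).inv_left
      rwa [hr, mul_inv_cancel_right] at this
    have hu' : Commute u v := Commute.mul_right (ih _ (by omega)) (Commute.mul_right (ih _ le_rfl) (ih _ le_rfl))
    have := hu'.inv_right.mul_right hu
    simpa [hw] using this

theorem comm_all_inv {u h : G} (hk : cj u h 1 * u = 1) : ∀ i, Commute u (cj u h i) := by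
  have e : cj u h 1 = u⁻¹ := eq_inv_of_mul_eq_one_left hk
  have H : ∀ i, cj u h i = u ∨ cj u h i = u⁻¹ := by
    intro i
    induction i with
    | zero => exact Or.inl (cj_zero u h)
    | succ i ih =>
      have s : cj u h (i + 1) = MulAut.conj (h ^ 1) (cj u h i) := by rw [cj_shift, add_comm]
      have e' : MulAut.conj (h ^ 1) u = u⁻¹ := by
        conv_lhs => rw [← cj_zero u h]
        rw [cj_shift, add_zero, e]
      rcases ih with q | q
      · right; rw [s, q, e']
      · left; rw [s, q, map_inv, e', inv_inv]
  intro i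
  rcases H i with q | q <;> rw [q]
  exact (Commute.refl u).inv_right

/-- The value of a list of coefficients at `a`. -/
def horner {R : Type*} [Semiring R] (a : R) : List ℕ → R
  | [] => 0
  | c :: cs => (c : R) + a * horner a cs

/-- The word attached to a list of coefficients. -/
def polyWord (u h : G) : List ℕ → G
  | [] => 1
  | c :: cs => u ^ c * (h * polyWord u h cs * h⁻¹)

theorem map_polyWord {H : Type*} [Group H] (φ : G →* H) (u h : G) :
    ∀ cs, φ (polyWord u h cs) = polyWord (φ u) (φ h) cs
  | [] => map_one φ
  | c :: cs => by simp [polyWord, map_polyWord φ u h cs]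

theorem BorelData.polyWord {F : Type*} [Field F] {u h : G} {a : F} {f : F → G} (B : BorelData u h a f) :
    ∀ cs, PresSL2.polyWord u h cs = f (horner a cs)
  | [] => by simp [PresSL2.polyWord, horner, B.zero]
  | c :: cs => by
    rw [PresSL2.polyWord, horner, B.add, B.polyWord cs, B.conj, ← nsmul_one, B.nsmul, B.one]

theorem map_horner {R S : Type*} [Semiring R] [Semiring S] (φ : R →+* S) (a : R) :
    ∀ cs, φ (horner a cs) = horner (φ a) cs
  | [] => map_zero φ
  | c :: cs => by simp [horner, map_horner φ a cs]

theorem exists_horner {p : ℕ} [NeZero p] (P : (ZMod p)[X]) : ∃ cs, horner (X : (ZMod p)[X]) cs = P := by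
  induction P using Polynomial.recOnHorner with
  | M0 => exact ⟨[], rfl⟩
  | MC P c _ _ ih =>
    obtain ⟨_ | ⟨d, cs⟩, rfl⟩ := ih
    · exact ⟨[c.val], by
        simp only [horner, mul_zero, add_zero, zero_add]
        rw [← C_eq_natCast, ZMod.natCast_zmod_val]⟩
    · exact ⟨(d + c.val) :: cs, by
        rw [horner, horner, Nat.cast_add, ← C_eq_natCast c.val, ZMod.natCast_zmod_val]; ring⟩
  | MX P _ ih =>
    obtain ⟨cs, rfl⟩ := ih
    exact ⟨0 :: cs, by rw [horner, Nat.cast_zero, zero_add, mul_comm]⟩

section Build

variable {F : Type*} [Field F] {p : ℕ} [Fact p.Prime] [Algebra (ZMod p) F]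

/-- Descending from polynomials to `F`. -/
theorem borelData_of_module {u h : G} {a : F} {A : Type*} [AddCommGroup A] [Module (ZMod p) A]
    (σ : Module.End (ZMod p) A) (e0 : A) (ι : A → G) (ι_add : ∀ x y, ι (x + y) = ι x * ι y)
    (ι_zero : ι 0 = 1) (ι_σ : ∀ x, ι (σ x) = h * ι x * h⁻¹) (ι_e0 : ι e0 = u) (ι_inj : Function.Injective ι)
    (hsurj : Function.Surjective (aeval a : (ZMod p)[X] → F)) {m : (ZMod p)[X]}
    (hdvd : ∀ P, aeval a P = 0 → m ∣ P) {cs : List ℕ} (hcs : horner (X : (ZMod p)[X]) cs = m)
    (hrel : polyWord u h cs = 1) : ∃ f : F → G, BorelData u h a f := by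
  let g : (ZMod p)[X] → G := fun P => ι ((aeval σ P) e0)
  have g_add : ∀ P Q, g (P + Q) = g P * g Q := fun P Q => by simp [g, ι_add]
  have g_one : g 1 = u := by simp [g, ι_e0]
  have g_X : ∀ P, g (X * P) = h * g P * h⁻¹ := fun P => by simp [g, ← ι_σ]
  have g_zero : g 0 = 1 := by simp [g, ι_zero]
  have g_nat : ∀ c : ℕ, g (c : (ZMod p)[X]) = u ^ c := by
    intro c
    induction c with
    | zero => simpa using g_zero
    | succ c ih => rw [Nat.cast_succ, g_add, ih, g_one, pow_succ]
  have g_horner : ∀ l : List ℕ, g (horner (X : (ZMod p)[X]) l) = polyWord u h l := by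
    intro l
    induction l with
    | nil => exact g_zero
    | cons c l ih => rw [horner, g_add, g_nat, g_X, ih, polyWord]
  have hm : (aeval σ m) e0 = 0 := by
    have := g_horner cs
    rw [hcs, hrel] at this
    exact ι_inj (this.trans ι_zero.symm)
  have g_wd : ∀ P Q, aeval a P = aeval a Q → g P = g Q := by
    intro P Q hPQ
    obtain ⟨R, hR⟩ := hdvd (P - Q) (by rw [map_sub, hPQ, sub_self])
    have e : P = Q + R * m := by rw [mul_comm, ← hR]; ring
    have e2 : g (R * m) = 1 := by simp [g, map_mul, Module.End.mul_apply, hm, ι_zero]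
    rw [e, g_add, e2, mul_one]
  choose P hP using hsurj
  refine ⟨fun x => g (P x), ?_, ?_, ?_⟩
  · exact (g_wd _ 1 (by rw [hP, map_one])).trans g_one
  · exact fun x y => (g_wd _ _ (by rw [hP, map_add, hP, hP])).trans (g_add _ _)
  · exact fun x => ((g_wd _ (X * P x) (by rw [hP, map_mul, aeval_X, hP])).trans (g_X _)).symm

/-- Relations giving the additive parametrisation. -/
theorem exists_borelData {u h : G} {a : F} (hp : u ^ p = 1) (hcomm : ∀ i, Commute u (cj u h i))
    (hsurj : Function.Surjective (aeval a : (ZMod p)[X] → F)) {m : (ZMod p)[X]}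
    (hdvd : ∀ P, aeval a P = 0 → m ∣ P) {cs : List ℕ} (hcs : horner (X : (ZMod p)[X]) cs = m)
    (hrel : polyWord u h cs = 1) : ∃ f : F → G, BorelData u h a f := by
  set E := Subgroup.closure (Set.range (cj u h)) with hE
  have hpair : ∀ x ∈ Set.range (cj u h), ∀ y ∈ Set.range (cj u h), x * y = y * x := by
    rintro _ ⟨i, rfl⟩ _ ⟨j, rfl⟩
    rcases Nat.le_total i j with hij | hij
    · have := commute_shift (show Commute (cj u h 0) (cj u h (j - i)) by rw [cj_zero]; exact hcomm _) i
      rw [add_zero, show i + (j - i) = j by omega] at this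
      exact this
    · have := commute_shift (show Commute (cj u h 0) (cj u h (i - j)) by rw [cj_zero]; exact hcomm _) j
      rw [add_zero, show j + (i - j) = i by omega] at this
      exact this.symm
  letI : CommGroup E := Subgroup.closureCommGroupOfComm hpair
  have hexp : ∀ x ∈ E, x ^ p = 1 := by
    intro x hx
    induction hx using Subgroup.closure_induction with
    | mem x hx =>
      obtain ⟨i, rfl⟩ := hx
      rw [cj, conj_pow, hp]
      simp
    | one => exact one_pow p
    | mul x y hx hy ex ey =>
      have := congrArg (fun z : E => (z : G)) (mul_pow (⟨x, hx⟩ : E) ⟨y, hy⟩ p)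
      simpa [ex, ey] using this
    | inv x _ ex => rw [inv_pow, ex, inv_one]
  letI : Module (ZMod p) (Additive E) := AddCommGroup.zmodModule fun x => by
    apply Additive.toMul.injective
    rw [toMul_nsmul]
    exact Subtype.ext (by simpa using hexp _ x.toMul.2)
  have hstable : ∀ x ∈ E, h * x * h⁻¹ ∈ E := by
    intro x hx
    induction hx using Subgroup.closure_induction with
    | mem x hx =>
      obtain ⟨i, rfl⟩ := hx
      refine Subgroup.subset_closure ⟨i + 1, ?_⟩
      simp only [cj, pow_succ']; group
    | one => simp [one_mem]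
    | mul x y _ _ ex ey => have := mul_mem ex ey; rwa [show h * x * h⁻¹ * (h * y * h⁻¹) = h * (x * y) * h⁻¹ by group] at this
    | inv x _ ex => have := inv_mem ex; rwa [show (h * x * h⁻¹)⁻¹ = h * x⁻¹ * h⁻¹ by group] at this
  let σ0 : E →* E :=
    { toFun := fun x => ⟨h * x * h⁻¹, hstable x x.2⟩
      map_one' := Subtype.ext (by simp)
      map_mul' := fun x y => Subtype.ext (by simp only [Subgroup.coe_mul]; group) }
  let σ : Module.End (ZMod p) (Additive E) := (MonoidHom.toAdditive σ0).toZModLinearMap p
  let e0 : Additive E := Additive.ofMul ⟨u, Subgroup.subset_closure ⟨0, cj_zero u h⟩⟩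
  refine borelData_of_module σ e0 (fun x => ((Additive.toMul x : E) : G)) (fun x y => rfl) rfl (fun x => rfl) rfl
    ?_ hsurj hdvd hcs hrel
  exact fun x y e => Additive.toMul.injective (Subtype.ext e)

/-- Polynomials in `a` fill `F` as soon as the powers of `a` make up more than half of it. -/
theorem aeval_surjective [Fintype F] {a : F} (N : ℕ) (hN : Fintype.card F < 2 * (N + 1))
    (hinj : ∀ i < N, ∀ j < N, a ^ i = a ^ j → i = j) (ha : a ≠ 0) :
    Function.Surjective (aeval a : (ZMod p)[X] → F) := by
  classical
  let S : AddSubgroup F := (aeval a : (ZMod p)[X] →ₐ[ZMod p] F).range.toSubring.toAddSubgroup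
  let ψ : Option (Fin N) → S := fun o => o.elim ⟨0, zero_mem S⟩ fun i => ⟨a ^ (i : ℕ), ⟨X ^ (i : ℕ), by simp⟩⟩
  have hψ : Function.Injective ψ := by
    rintro (_ | i) (_ | j) e
    · rfl
    · exact absurd (congrArg Subtype.val e).symm (pow_ne_zero _ ha)
    · exact absurd (congrArg Subtype.val e) (pow_ne_zero _ ha)
    · exact congrArg some (Fin.ext (hinj _ i.2 _ j.2 (congrArg Subtype.val e)))
  have h1 : N + 1 ≤ Nat.card S := by
    simpa [Nat.card_eq_fintype_card] using Nat.card_le_card_of_injective ψ hψ
  have h2 : S = ⊤ := by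
    apply AddSubgroup.eq_top_of_card_eq
    obtain ⟨k, hk⟩ := AddSubgroup.card_addSubgroup_dvd_card S
    rw [Nat.card_eq_fintype_card (α := F)] at hk ⊢
    have hq : 0 < Fintype.card F := Fintype.card_pos
    rcases k with _ | _ | k
    · omega
    · omega
    · nlinarith
  intro x
  have : x ∈ S := by rw [h2]; exact AddSubgroup.mem_top x
  exact this

end Build

end Cfsg.Agent.Lib.PresSL2
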