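import Cfsg.Agent.Lib.PresSL2.Odd

/-! Groups satisfying the five-relator presentations of `PSL₂(2ⁿ)`. -/

set_option autoImplicit false

open Polynomial

namespace Cfsg.Agent.Lib.PresSL2

variable {G H : Type*} [Group G] [Group H]

/-- Five relators, `n ≥ 3`. -/
def evenRels (u h t : G) (M k : ℕ) (cs : List ℕ) : List G :=
  [u * u * (h ^ M)⁻¹, u * t * u * t * u * t * (t * t)⁻¹, h * t * h * t⁻¹, cj u h k * (u * cj u h 1)⁻¹,
    polyWord u h cs]

/-- Five relators for `q = 4`. -/
def fourRels (u h t : G) : List G :=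
  [u * u, h ^ 3, u * t * u * t * u * t * (t * t)⁻¹, h * t * h * t⁻¹, cj u h 2 * (u * cj u h 1)⁻¹]

/-- Four relators for `q = 2`. -/
def twoRels (u h t : G) : List G := [u * u, h, u * t * u * t * u * t * (t * t)⁻¹, h * t * h * t⁻¹]

theorem map_evenRels (φ : G →* H) (u h t : G) (M k : ℕ) (cs : List ℕ) :
    (evenRels u h t M k cs).map φ = evenRels (φ u) (φ h) (φ t) M k cs := by
  simp [evenRels, map_polyWord, map_cj]

theorem map_fourRels (φ : G →* H) (u h t : G) : (fourRels u h t).map φ = fourRels (φ u) (φ h) (φ t) := by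
  simp [fourRels, map_cj]

theorem map_twoRels (φ : G →* H) (u h t : G) : (twoRels u h t).map φ = twoRels (φ u) (φ h) (φ t) := by
  simp [twoRels]

variable {F : Type*} [Field F] {u h t : G} {a : F} {f : F → G} {M : ℕ}

theorem even_bound [Fintype F] (B : BorelData u h a f) (hM0 : 0 < M) (hM : h ^ M = 1) (hu : u * u = 1)
    (hgen : Subgroup.closure {u, h, t} = ⊤) (h2 : u * t * u * t * u * t = t * t) (h3 : h * t * h * t⁻¹ = 1)
    (hcover : ∀ x : F, x ≠ 0 → ∃ i : ℕ, x = a ^ i) :
    Finite G ∧ Nat.card G ≤ M * (Fintype.card F * (Fintype.card F + 1)) := by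
  set w := u * t with hw
  have hui : u⁻¹ = u := inv_eq_of_mul_eq_one_left hu
  have htt : t * t = 1 := by
    have hc : Commute (t * t) u := by
      have e1 : w * (w * (w * 1)) = t * t := by rw [← h2, hw]; group
      have e2 : Commute (t * t) w := by rw [← e1, mul_one]; exact (Commute.refl w).mul_left ((Commute.refl w).mul_left (Commute.refl w))
      have e3 : Commute (t * t) t := (Commute.refl t).mul_left (Commute.refl t)
      have : u = w * t⁻¹ := by rw [hw, mul_inv_cancel_right]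
      rw [this]
      exact e2.mul_right e3.inv_right
    have hs : t * u * t * u * t * u = t * t := by
      have e : u⁻¹ * (u * t * u * t * u * t) * u = t * t := by rw [h2, mul_assoc, hc.eq, inv_mul_cancel_left]
      rw [← e]; group
    have inv1 : t⁻¹ * u * t⁻¹ * u * t⁻¹ * u = (t * t)⁻¹ := by
      rw [← h2, hw]; simp [mul_inv_rev, hui, mul_assoc]
    have hti : t⁻¹ = (t * t)⁻¹ * t := by group
    rw [hti] at inv1
    have hci : ∀ X ∈ ({u, t} : Set G), X * (t * t)⁻¹ = (t * t)⁻¹ * X := by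
      rintro X (rfl | rfl)
      · exact (hc.symm.inv_right).eq
      · group
    have l : ∀ X ∈ ({u, t} : Set G), ∀ Y, X * ((t * t)⁻¹ * Y) = (t * t)⁻¹ * (X * Y) := fun X hX Y => by
      rw [← mul_assoc, hci X hX, mul_assoc]
    set c := (t * t)⁻¹
    simp only [mul_assoc] at inv1
    simp only [l u (by simp), l t (by simp)] at inv1
    simp only [← mul_assoc] at inv1
    rw [mul_assoc (c * c * c), mul_assoc (c * c * c), mul_assoc (c * c * c), mul_assoc (c * c * c), mul_assoc (c * c * c),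
      hs] at inv1
    have : c = c * c * c * c⁻¹ := by rw [inv_inv]; exact inv1.symm
    have h1 : c = 1 := by
      rw [mul_inv_cancel_right] at this
      exact left_eq_mul.mp this
    exact inv_eq_one.mp h1
  rw [htt] at h2
  refine bound_of_cover B hM0 hM hgen ⟨M - 1, ?_⟩ ⟨0, by rw [pow_zero]; exact htt⟩ ⟨0, by rw [pow_zero]; exact h2⟩
    (y := 1) ?_ fun x hx => (hcover x hx).imp fun i hi => Or.inl hi
  · have hh : h⁻¹ = h ^ (M - 1) := inv_eq_of_mul_eq_one_left (by
      rw [← pow_succ, show M - 1 + 1 = M by omega, hM])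
    rw [← hh]
    calc t * h = h⁻¹ * (h * t * h * t⁻¹) * t := by group
      _ = h⁻¹ * t := by rw [h3, mul_one]
  · exact inCell_of_word B hM0 hM ⟨0, by rw [pow_zero]; exact htt⟩ (x := 1) ⟨0, by rw [pow_zero, B.one]; exact h2⟩

variable {p : ℕ} [Fact p.Prime] [Algebra (ZMod p) F]

theorem fourRels_bound [Fintype F] (hp : p = 2) (hrel : ∀ r ∈ fourRels u h t, r = 1)
    (hgen : Subgroup.closure {u, h, t} = ⊤) (hsurj : Function.Surjective (aeval a : (ZMod p)[X] → F))
    (hdvd : ∀ P, aeval a P = 0 → (X ^ 2 + X + 1 : (ZMod p)[X]) ∣ P) (hcover : ∀ x : F, x ≠ 0 → ∃ i : ℕ, x = a ^ i) :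
    Finite G ∧ Nat.card G ≤ 3 * (Fintype.card F * (Fintype.card F + 1)) := by
  subst hp
  simp only [fourRels, List.forall_mem_cons] at hrel
  obtain ⟨hu, hM, h2, h3, h4, -⟩ := hrel
  have hk : cj u h 2 = u * cj u h 1 := mul_inv_eq_one.mp h4
  have hsq : ∀ i, cj u h i * cj u h i = 1 := fun i => by
    rw [← sq, cj, conj_pow, sq, hu]; group
  have h1 : Commute u (cj u h 1) := by
    have e := hsq 2
    rw [hk] at e
    have e2 := eq_inv_of_mul_eq_one_left e
    rw [mul_inv_rev, inv_eq_of_mul_eq_one_left hu, inv_eq_of_mul_eq_one_left (hsq 1)] at e2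
    exact e2
  obtain ⟨f, B⟩ := exists_borelData (p := 2) (by rw [sq]; exact hu) (comm_all_one hk h1) hsurj hdvd (cs := [1, 1, 1])
    (by simp [horner]; ring) (by
      have : polyWord u h [1, 1, 1] = u * cj u h 1 * cj u h 2 := by simp [polyWord, cj, pow_two, mul_assoc]
      rw [this, hk, ← sq, sq]
      have e := hsq 2
      rwa [hk] at e)
  exact even_bound B (by norm_num) hM hu hgen (mul_inv_eq_one.mp h2) h3 hcover

theorem twoRels_bound [Fintype F] (hp : p = 2) (ha : a = 1) (hrel : ∀ r ∈ twoRels u h t, r = 1)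
    (hgen : Subgroup.closure {u, h, t} = ⊤) (hsurj : Function.Surjective (aeval a : (ZMod p)[X] → F))
    (hcover : ∀ x : F, x ≠ 0 → ∃ i : ℕ, x = a ^ i) :
    Finite G ∧ Nat.card G ≤ 1 * (Fintype.card F * (Fintype.card F + 1)) := by
  subst hp
  simp only [twoRels, List.forall_mem_cons] at hrel
  obtain ⟨hu, hM, h2, h3, -⟩ := hrel
  subst hM
  obtain ⟨f, B⟩ := exists_borelData (p := 2) (u := u) (h := 1) (by rw [sq]; exact hu) (fun i => by simp [cj]) hsurj
    (m := X + 1) (fun P hP => by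
      have : P.eval 1 = 0 := by
        subst ha
        have e : algebraMap (ZMod 2) F (P.eval 1) = 0 := by
          rw [← Polynomial.coe_aeval_eq_eval, ← Polynomial.aeval_algebraMap_apply, map_one, hP]
        exact (algebraMap (ZMod 2) F).injective (by rw [e, map_zero])
      have hd := dvd_iff_isRoot.mpr this
      rwa [show (X - C 1 : (ZMod 2)[X]) = X + 1 by rw [C_1, CharTwo.sub_eq_add]] at hd) (cs := [1, 1])
    (by simp [horner, add_comm]) (by simp [polyWord, hu])
  exact even_bound B one_pos (pow_one _) hu hgen (mul_inv_eq_one.mp h2) h3 hcover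

theorem anti_of_sq {x y z : G} (hx : x * x = z) (hy : y * y = z) (hxy : x * y * (x * y) = z) (hz : z * z = 1) :
    y * x = x * y * z := by
  have hzc : Commute z x := by rw [← hx]; exact (Commute.refl x).mul_left (Commute.refl x)
  have hzc' : Commute z y := by rw [← hy]; exact (Commute.refl y).mul_left (Commute.refl y)
  calc y * x = x⁻¹ * (x * y * (x * y)) * y⁻¹ := by group
    _ = x⁻¹ * z * y⁻¹ := by rw [hxy]
    _ = x * y * (y * y)⁻¹ := by rw [← hx]; group
    _ = x * y * z := by rw [hy, inv_eq_of_mul_eq_one_left hz]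

theorem evenRels_bound [Fintype F] (hp : p = 2) {k : ℕ} {cs : List ℕ} (hM0 : 0 < M)
    (hrel : ∀ r ∈ evenRels u h t M k cs, r = 1)
    (hgen : Subgroup.closure {u, h, t} = ⊤) (hsurj : Function.Surjective (aeval a : (ZMod p)[X] → F)) {m : (ZMod p)[X]}
    (hdvd : ∀ P, aeval a P = 0 → m ∣ P) (hcs : horner (X : (ZMod p)[X]) cs = m)
    (hcover : ∀ x : F, x ≠ 0 → ∃ i : ℕ, x = a ^ i) (hneq : (1 + a ≠ 0 ∧ 1 + a ^ 2 ≠ 0 ∧ a + a ^ 2 ≠ 0) ∧ 1 + (a + a ^ 2) ≠ 0) :
    Finite G ∧ Nat.card G ≤ M * (Fintype.card F * (Fintype.card F + 1)) := by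
  subst hp
  simp only [evenRels, List.forall_mem_cons] at hrel
  obtain ⟨h1', h2', h3, h4, h5, -⟩ := hrel
  have h1 : u * u = h ^ M := mul_inv_eq_one.mp h1'
  have h2 : u * t * u * t * u * t = t * t := mul_inv_eq_one.mp h2'
  have hk : cj u h k = u * cj u h 1 := mul_inv_eq_one.mp h4
  set z := u * u with hz
  have e7 : MulAut.conj t h = h⁻¹ := by
    rw [MulAut.conj_apply]
    calc t * h * t⁻¹ = h⁻¹ * (h * t * h * t⁻¹) := by group
      _ = h⁻¹ := by rw [h3, mul_one]
  have czu : Commute z u := (Commute.refl u).mul_left (Commute.refl u)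
  have czh : Commute z h := by rw [h1]; exact (Commute.refl h).pow_left M
  have etz : MulAut.conj t z = z⁻¹ := by rw [h1, map_pow, e7, inv_pow]
  have hzz : z * z = 1 := by
    have ew : MulAut.conj (u * t) z = z⁻¹ := by
      rw [map_mul (MulAut.conj) u t, MulAut.mul_apply, etz, MulAut.conj_apply, ← (czu.inv_left).eq, mul_inv_cancel_right]
    have etz2 : MulAut.conj (t * t) z = z := by
      rw [map_mul (MulAut.conj) t t, MulAut.mul_apply, etz, map_inv, etz, inv_inv]
    rw [← h2, show u * t * u * t * u * t = (u * t) * ((u * t) * (u * t)) by group, map_mul (MulAut.conj) (u * t) (u * t * (u * t)),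
      map_mul (MulAut.conj) (u * t) (u * t), MulAut.mul_apply, MulAut.mul_apply, ew, map_inv, ew, inv_inv, ew] at etz2
    nth_rewrite 1 [← etz2]
    exact inv_mul_cancel z
  have hzi : z⁻¹ = z := inv_eq_of_mul_eq_one_left hzz
  have hzc : ∀ g : G, z * g = g * z := by
    have : Subgroup.closure {u, h, t} ≤ Subgroup.centralizer ({z} : Set G) := by
      rw [Subgroup.closure_le]
      rintro g (rfl | rfl | rfl)
      · exact Subgroup.mem_centralizer_singleton_iff.mpr czu.eq.symm
      · exact Subgroup.mem_centralizer_singleton_iff.mpr czh.eq.symm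
      · rw [hzi, MulAut.conj_apply] at etz
        exact Subgroup.mem_centralizer_singleton_iff.mpr (mul_inv_eq_iff_eq_mul.mp etz)
    rw [hgen] at this
    exact fun g => (Subgroup.mem_centralizer_singleton_iff.mp (this (Subgroup.mem_top g))).symm
  set Z := Subgroup.zpowers z
  haveI : Z.Normal := ⟨fun x hx g => by
    obtain ⟨n, rfl⟩ := Subgroup.mem_zpowers_iff.mp hx
    rw [← ((Commute.zpow_left (hzc g) n)).eq, mul_inv_cancel_right]
    exact Subgroup.zpow_mem_zpowers z n⟩
  set π := QuotientGroup.mk' Z with hπ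
  have hπz : π z = 1 := (QuotientGroup.eq_one_iff z).mpr (Subgroup.mem_zpowers z)
  have hsq : ∀ i, cj u h i * cj u h i = z := fun i => by
    rw [← sq, cj, conj_pow, sq, ← hz, ← hzc, mul_inv_cancel_right]
  have hk' : cj (π u) (π h) k = π u * cj (π u) (π h) 1 := by rw [← map_cj, ← map_cj, hk, map_mul]
  have hsqπ : ∀ i, π (cj u h i) * π (cj u h i) = 1 := fun i => by rw [← map_mul, hsq, hπz]
  have hcomm1 : Commute (π u) (cj (π u) (π h) 1) := by
    have e := hsqπ k
    rw [map_cj, hk'] at e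
    have e2 := eq_inv_of_mul_eq_one_left e
    rw [mul_inv_rev, inv_eq_of_mul_eq_one_left (show π u * π u = 1 by rw [← map_mul, ← hz, hπz]),
      inv_eq_of_mul_eq_one_left (show cj (π u) (π h) 1 * cj (π u) (π h) 1 = 1 by rw [← map_cj]; exact hsqπ 1)] at e2
    exact e2
  obtain ⟨f, B⟩ := exists_borelData (p := 2) (show (π u) ^ 2 = 1 by rw [sq, ← map_mul, ← hz, hπz])
    (comm_all_one hk' hcomm1) hsurj hdvd hcs (by rw [← map_polyWord, h5, map_one])
  have hfi : ∀ i, π (cj u h i) = f (a ^ i) := fun i => by rw [map_cj]; exact B.conj_pow' i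
  have lift : ∀ i j, a ^ i + a ^ j ≠ 0 → ∃ l : ℕ, ∃ e : ℤ, cj u h i * cj u h j = cj u h l * z ^ e ∧ a ^ l = a ^ i + a ^ j := by
    intro i j hij
    obtain ⟨l, hl⟩ := hcover _ hij
    have e : π (cj u h l) = π (cj u h i * cj u h j) := by rw [map_mul, hfi, hfi, hfi, ← B.add, hl]
    obtain ⟨n, hn⟩ := Subgroup.mem_zpowers_iff.mp ((QuotientGroup.eq).mp e)
    exact ⟨l, n, by rw [hn, mul_inv_cancel_left], hl.symm⟩
  have anti : ∀ i j, a ^ i + a ^ j ≠ 0 → cj u h j * cj u h i = cj u h i * cj u h j * z := by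
    intro i j hij
    obtain ⟨l, n, e, -⟩ := lift i j hij
    refine anti_of_sq (hsq i) (hsq j) ?_ hzz
    rw [e]
    calc cj u h l * z ^ n * (cj u h l * z ^ n) = cj u h l * cj u h l * (z ^ n * z ^ n) :=
          Commute.mul_mul_mul_comm ((Commute.zpow_left (hzc _) n)) _ _
      _ = z := by rw [hsq, ← zpow_add, ← two_mul, zpow_mul, zpow_two, hzz, one_zpow, mul_one]
  have hz1 : z = 1 := by
    obtain ⟨⟨n01, n02, n12⟩, n012⟩ := hneq
    have a01 := anti 0 1 (by simpa using n01)
    have a02 := anti 0 2 (by simpa using n02)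
    obtain ⟨l, n, e, hl⟩ := lift 1 2 (by simpa using n12)
    have a0l := anti 0 l (by rw [pow_zero, hl, pow_one]; exact n012)
    rw [cj_zero] at a01 a02 a0l
    have eA : cj u h 1 * cj u h 2 * u = u * (cj u h 1 * cj u h 2) := by
      calc cj u h 1 * cj u h 2 * u = cj u h 1 * (u * cj u h 2 * z) := by rw [mul_assoc, a02]
        _ = (cj u h 1 * u) * cj u h 2 * z := by simp only [mul_assoc]
        _ = (u * cj u h 1) * (z * cj u h 2) * z := by rw [a01]; simp only [mul_assoc]
        _ = u * (cj u h 1 * cj u h 2) * (z * z) := by rw [hzc]; simp only [mul_assoc]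
        _ = u * (cj u h 1 * cj u h 2) := by rw [hzz, mul_one]
    rw [e, mul_assoc, (Commute.zpow_left (hzc u) n).eq, ← mul_assoc, a0l] at eA
    have e' : u * cj u h l * z * z ^ n = u * cj u h l * z ^ n := by rw [eA, mul_assoc]
    have := mul_right_cancel e'
    exact mul_eq_left.mp this
  have hM : h ^ M = 1 := h1 ▸ hz1
  have hsq1 : ∀ i, cj u h i * cj u h i = 1 := fun i => (hsq i).trans hz1
  have hcomm : Commute u (cj u h 1) := by
    have e := hsq1 k
    rw [hk] at e
    have e2 := eq_inv_of_mul_eq_one_left e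
    rw [mul_inv_rev, inv_eq_of_mul_eq_one_left (show u * u = 1 from hz ▸ hz1), inv_eq_of_mul_eq_one_left (hsq1 1)] at e2
    exact e2
  obtain ⟨f', B'⟩ := exists_borelData (p := 2) (show u ^ 2 = 1 by rw [sq, ← hz, hz1]) (comm_all_one hk hcomm) hsurj hdvd hcs h5
  exact even_bound B' hM0 hM (hz ▸ hz1) hgen h2 h3 hcover

end Cfsg.Agent.Lib.PresSL2
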