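import Cfsg.Agent.Lib.PresSL2.Even

/-! The standard generators of `SL₂(F)` and the passage to presented groups. -/

set_option autoImplicit false

open Matrix Polynomial

namespace Cfsg.Agent.Lib.PresSL2

theorem BorelData.map {G H F : Type*} [Group G] [Group H] [Field F] {u h : G} {a : F} {f : F → G}
    (B : BorelData u h a f) (φ : G →* H) : BorelData (φ u) (φ h) a (φ ∘ f) :=
  ⟨congrArg φ B.one, fun x y => by simp [B.add x y], fun x => by simp [← B.conj x]⟩

theorem polyWord_mem {G : Type*} [Group G] {S : Subgroup G} {u h : G} (hu : u ∈ S) (hh : h ∈ S) :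
    ∀ cs, polyWord u h cs ∈ S
  | [] => one_mem S
  | c :: cs => mul_mem (pow_mem hu c) (mul_mem (mul_mem hh (polyWord_mem hu hh cs)) (inv_mem hh))

theorem exists_list_horner {F : Type*} [Field F] {p : ℕ} [Fact p.Prime] [Algebra (ZMod p) F] {a : F}
    (hsurj : Function.Surjective (aeval a : (ZMod p)[X] → F)) (x : F) : ∃ cs : List ℕ, horner a cs = x := by
  obtain ⟨P, rfl⟩ := hsurj x
  obtain ⟨cs, rfl⟩ := exists_horner P
  exact ⟨cs, by have := map_horner (aeval a : (ZMod p)[X] →ₐ[ZMod p] F).toRingHom X cs; simpa using this.symm⟩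

variable (F : Type*) [Field F]

/-- Upper transvection. -/
def mU (x : F) : SpecialLinearGroup (Fin 2) F := ⟨!![1, x; 0, 1], by simp [det_fin_two]⟩

/-- Diagonal element. -/
def mD (l : Fˣ) : SpecialLinearGroup (Fin 2) F := ⟨!![(l : F), 0; 0, ((l⁻¹ : Fˣ) : F)], by simp [det_fin_two]⟩

/-- The Weyl element. -/
def mT : SpecialLinearGroup (Fin 2) F := ⟨!![0, 1; -1, 0], by simp [det_fin_two]⟩

variable {F}

theorem coe_mU (x : F) : (mU F x : Matrix (Fin 2) (Fin 2) F) = !![1, x; 0, 1] := rfl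

theorem coe_mD (l : Fˣ) : (mD F l : Matrix (Fin 2) (Fin 2) F) = !![(l : F), 0; 0, ((l⁻¹ : Fˣ) : F)] := rfl

theorem coe_mT : (mT F : Matrix (Fin 2) (Fin 2) F) = !![0, 1; -1, 0] := rfl

theorem mU_add (x y : F) : mU F (x + y) = mU F x * mU F y := by
  ext i j; fin_cases i <;> fin_cases j <;> simp [coe_mU, add_comm, Matrix.mul_apply, Fin.sum_univ_two]

theorem mD_mul (l m : Fˣ) : mD F (l * m) = mD F l * mD F m := by
  ext i j; fin_cases i <;> fin_cases j <;> simp [coe_mD, mul_comm, Matrix.mul_apply, Fin.sum_univ_two]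

theorem mD_pow (l : Fˣ) (n : ℕ) : mD F (l ^ n) = mD F l ^ n := by
  induction n with
  | zero => ext i j; fin_cases i <;> fin_cases j <;> simp [coe_mD, Matrix.mul_apply, Fin.sum_univ_two]
  | succ n ih => rw [pow_succ, mD_mul, ih, pow_succ]

theorem mD_conj (l : Fˣ) (x : F) : mD F l * mU F x * (mD F l)⁻¹ = mU F ((l : F) ^ 2 * x) := by
  rw [mul_inv_eq_iff_eq_mul]
  ext i j; fin_cases i <;> fin_cases j <;> simp [coe_mD, coe_mU, Matrix.mul_apply, Fin.sum_univ_two]
  field_simp

theorem borel_model (l : Fˣ) : BorelData (mU F 1) (mD F l) ((l : F) ^ 2) (mU F) :=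
  ⟨rfl, mU_add, mD_conj l⟩

theorem mT_mul_mT : mT F * mT F = mD F (-1) := by
  ext i j; fin_cases i <;> fin_cases j <;> simp [coe_mT, coe_mD, Matrix.mul_apply, Fin.sum_univ_two]

theorem mD_neg_one_mem_center : mD F (-1) ∈ Subgroup.center (SpecialLinearGroup (Fin 2) F) := by
  rw [Subgroup.mem_center_iff]
  intro g
  ext i j; fin_cases i <;> fin_cases j <;> simp [coe_mD, Matrix.mul_apply, Fin.sum_univ_two]

theorem mD_mT (l : Fˣ) : mD F l * mT F * mD F l * (mT F)⁻¹ = 1 := by
  rw [mul_inv_eq_one]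
  ext i j; fin_cases i <;> fin_cases j <;> simp [coe_mD, coe_mT, Matrix.mul_apply, Fin.sum_univ_two]

theorem mW (l : Fˣ) :
    mU F (l : F) * mT F * mU F ((l⁻¹ : Fˣ) : F) * mT F * mU F (l : F) * mT F = mD F l := by
  ext i j; fin_cases i <;> fin_cases j <;> simp [coe_mU, coe_mT, coe_mD, Matrix.mul_apply, Fin.sum_univ_two]

theorem mW_one : mU F 1 * mT F * mU F 1 * mT F * mU F 1 * mT F = 1 := by
  ext i j; fin_cases i <;> fin_cases j <;> simp [coe_mU, coe_mT, Matrix.mul_apply, Fin.sum_univ_two]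

theorem generate {p : ℕ} [Fact p.Prime] [Algebra (ZMod p) F] [Finite F] {l : Fˣ}
    (hl : ∀ y : Fˣ, y ∈ Subgroup.zpowers l)
    (hsurj : Function.Surjective (aeval ((l : F) ^ 2) : (ZMod p)[X] → F)) :
    Subgroup.closure {mU F 1, mD F l, mT F} = ⊤ := by
  set S := Subgroup.closure {mU F 1, mD F l, mT F} with hS
  have hu : mU F 1 ∈ S := Subgroup.subset_closure (by simp)
  have hh : mD F l ∈ S := Subgroup.subset_closure (by simp)
  have ht : mT F ∈ S := Subgroup.subset_closure (by simp)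
  have hU : ∀ x, mU F x ∈ S := fun x => by
    obtain ⟨cs, rfl⟩ := exists_list_horner hsurj x
    rw [← (borel_model l).polyWord]
    exact polyWord_mem hu hh cs
  have hD : ∀ y, mD F y ∈ S := fun y => by
    obtain ⟨n, rfl⟩ := (isOfFinOrder_of_finite l).mem_powers_iff_mem_zpowers.mpr (hl y)
    rw [mD_pow]
    exact pow_mem hh n
  rw [eq_top_iff]
  intro g _
  have hdet := g.det_coe
  rw [det_fin_two] at hdet
  by_cases hc : g.1 1 0 = 0
  · have ha : g.1 0 0 ≠ 0 := fun h0 => by rw [h0, hc] at hdet; simp at hdet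
    have e : g = mD F (Units.mk0 _ ha) * mU F (g.1 0 1 / g.1 0 0) := by
      ext i j; fin_cases i <;> fin_cases j <;> simp [coe_mD, coe_mU, hc, Matrix.mul_apply, Fin.sum_univ_two]
      · field_simp
      · rw [hc] at hdet; field_simp; linear_combination hdet
    rw [e]; exact mul_mem (hD _) (hU _)
  · have e : g = mU F (g.1 0 0 / g.1 1 0) * (mD F (-(Units.mk0 _ hc)⁻¹) * mT F) * mU F (g.1 1 1 / g.1 1 0) := by
      ext i j; fin_cases i <;> fin_cases j <;> simp [coe_mD, coe_mU, coe_mT, hc, Matrix.mul_apply, Fin.sum_univ_two]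
      · field_simp; linear_combination -hdet
      · field_simp
    rw [e]; exact mul_mem (mul_mem (hU _) (mul_mem (hD _) ht)) (hU _)

/-- From relators and a bound to an isomorphism with a presented group. -/
theorem presentation {H : Type*} [Group H] [Finite H] (k : ℕ) (L : List (FreeGroup (Fin 3))) (hlen : L.length ≤ k)
    {u h t : H} (hgen : Subgroup.closure {u, h, t} = ⊤) (hsat : ∀ r ∈ L.map (FreeGroup.lift ![u, h, t]), r = 1)
    (hbound : ∀ (G : Type) [Group G] (u' h' t' : G), Subgroup.closure {u', h', t'} = ⊤ →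
      (∀ r ∈ L.map (FreeGroup.lift ![u', h', t']), r = 1) → Finite G ∧ Nat.card G ≤ Nat.card H) :
    ∃ rels : Finset (FreeGroup (Fin 3)), rels.card ≤ k ∧
      Nonempty (PresentedGroup (↑rels : Set (FreeGroup (Fin 3))) ≃* H) := by
  classical
  refine ⟨L.toFinset, (List.toFinset_card_le L).trans hlen, ?_⟩
  set R : Set (FreeGroup (Fin 3)) := ↑L.toFinset
  let v : Fin 3 → PresentedGroup R := PresentedGroup.of
  have hv : FreeGroup.lift v = PresentedGroup.mk R := FreeGroup.ext_hom _ _ fun i => by simp [v, PresentedGroup.of]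
  have hrange : Set.range v = {v 0, v 1, v 2} := by
    ext x
    simp only [Set.mem_range, Fin.exists_fin_succ, Set.mem_insert_iff, Set.mem_singleton_iff]
    simp [eq_comm]
  obtain ⟨hfin, hcard⟩ := hbound (PresentedGroup R) (v 0) (v 1) (v 2)
    (by rw [← hrange]; exact PresentedGroup.closure_range_of R) (by
      intro r hr
      rw [show ![v 0, v 1, v 2] = v by funext i; fin_cases i <;> rfl, hv] at hr
      obtain ⟨w, hw, rfl⟩ := List.mem_map.mp hr
      exact PresentedGroup.one_of_mem (by simpa [R] using hw))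
  let φ : PresentedGroup R →* H := PresentedGroup.toGroup (f := ![u, h, t])
    (fun r hr => hsat _ (List.mem_map_of_mem (by simpa [R] using hr)))
  have hsurj : Function.Surjective φ := by
    rw [← MonoidHom.range_eq_top, eq_top_iff, ← hgen, Subgroup.closure_le]
    rintro x (rfl | rfl | rfl)
    · exact ⟨PresentedGroup.of 0, by simp [φ]⟩
    · exact ⟨PresentedGroup.of 1, by simp [φ]⟩
    · exact ⟨PresentedGroup.of 2, by simp [φ]⟩
  exact ⟨MulEquiv.ofBijective φ (hsurj.bijective_of_nat_card_le hcard)⟩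

end Cfsg.Agent.Lib.PresSL2
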