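import Mathlib

/-! A normal form bound for groups generated like `SL₂(q)`. -/

set_option autoImplicit false

namespace Cfsg.Agent.Lib.PresSL2

variable {G F : Type*} [Group G] [Field F]

/-- The data of a torus `h` acting on an additively parametrised root subgroup `f`. -/
structure BorelData (u h : G) (a : F) (f : F → G) : Prop where
  one : f 1 = u
  add : ∀ x y, f (x + y) = f x * f y
  conj : ∀ x, h * f x * h⁻¹ = f (a * x)

namespace BorelData

variable {u h : G} {a : F} {f : F → G}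

theorem zero (B : BorelData u h a f) : f 0 = 1 := by
  have := B.add 0 0
  rw [add_zero] at this
  exact left_eq_mul.mp this

theorem neg (B : BorelData u h a f) (x : F) : f (-x) = (f x)⁻¹ :=
  eq_inv_of_mul_eq_one_left (by rw [← B.add, neg_add_cancel, B.zero])

theorem conj_pow (B : BorelData u h a f) (i : ℕ) (x : F) : h ^ i * f x = f (a ^ i * x) * h ^ i := by
  induction i generalizing x with
  | zero => simp
  | succ i ih =>
    have e : h * f x = f (a * x) * h := by rw [← B.conj x]; group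
    rw [pow_succ, pow_succ a, mul_assoc, e, ← mul_assoc, ih, mul_assoc, mul_assoc]

theorem conj_pow' (B : BorelData u h a f) (i : ℕ) : h ^ i * u * (h ^ i)⁻¹ = f (a ^ i) := by
  rw [← B.one, B.conj_pow, mul_one, mul_inv_cancel_right]

theorem nsmul (B : BorelData u h a f) (n : ℕ) (x : F) : f (n • x) = f x ^ n := by
  induction n with
  | zero => rw [zero_smul, pow_zero, B.zero]
  | succ n ih => rw [succ_nsmul, pow_succ, B.add, ih]

theorem move (B : BorelData u h a f) {M : ℕ} (hM0 : 0 < M) (hM : h ^ M = 1) (x : F) (j : ℕ) :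
    f x * h ^ j = h ^ j * f ((a ^ j) ^ (M - 1) * x) := by
  have h1 : h ^ (j * M) = 1 := by rw [mul_comm, pow_mul, hM, one_pow]
  have h2 := B.conj_pow (j * M) x
  rw [h1, one_mul, mul_one] at h2
  rw [B.conj_pow, ← mul_assoc, ← pow_succ', show M - 1 + 1 = M by omega, ← pow_mul, ← h2]

end BorelData

/-- `t f x t` lies in the big cell. -/
def InCell (h t : G) (f : F → G) (x : F) : Prop := ∃ (m : ℕ) (c d : F), t * f x * t = h ^ m * (f c * t * f d)

variable {u h t : G} {a : F} {f : F → G} {M : ℕ}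

theorem inCell_of_word (B : BorelData u h a f) (hM0 : 0 < M) (hM : h ^ M = 1) (htt : ∃ s : ℕ, t * t = h ^ s)
    {x y : F} (hw : ∃ j : ℕ, f x * t * f y * t * f x * t = h ^ j) : InCell h t f y := by
  obtain ⟨j, hj⟩ := hw
  obtain ⟨s, hs⟩ := htt
  have hinv : ∀ r : ℕ, (h ^ r)⁻¹ = h ^ ((M - 1) * r) := fun r => inv_eq_of_mul_eq_one_left (by
    rw [← pow_add, show (M - 1) * r + r = M * r by rw [← Nat.succ_mul]; congr 1; omega, pow_mul, hM, one_pow])
  have ht : t⁻¹ = h ^ ((M - 1) * s) * t := by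
    rw [← hinv, ← hs]; group
  have e : t * f y * t = f (-x) * h ^ j * t⁻¹ * f (-x) := by rw [B.neg, ← hj]; group
  rw [ht] at e
  refine ⟨j + (M - 1) * s, (a ^ (j + (M - 1) * s)) ^ (M - 1) * (-x), -x, ?_⟩
  rw [e, ← mul_assoc, mul_assoc (f (-x)), ← pow_add, B.move hM0 hM]
  simp only [mul_assoc]

theorem inCell_smul (B : BorelData u h a f) (hM0 : 0 < M) (hM : h ^ M = 1) (hth : ∃ m : ℕ, t * h = h ^ m * t)
    (htt : ∃ s : ℕ, t * t = h ^ s) {x : F} (hx : InCell h t f x) : InCell h t f (a * x) := by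
  obtain ⟨m, hm⟩ := hth
  obtain ⟨s, hs⟩ := htt
  obtain ⟨j, c, d, hj⟩ := hx
  have hpow : ∀ r : ℕ, t * h ^ r = h ^ (m * r) * t := by
    intro r
    induction r with
    | zero => simp
    | succ r ih => rw [pow_succ, ← mul_assoc, ih, mul_assoc, hm, ← mul_assoc, ← pow_add, Nat.mul_succ]
  have hmm : h ^ (m * m) = h := by
    have e : h ^ (m * m) * (t * t) = h * (t * t) := by
      rw [← mul_assoc, ← hpow, mul_assoc, ← hm, ← mul_assoc, hs, pow_mul_comm']
    exact mul_right_cancel e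
  have hpow' : ∀ r : ℕ, h ^ r * t = t * h ^ (m * r) := by
    intro r; rw [hpow, ← mul_assoc, pow_mul, hmm]
  have hinv : h⁻¹ = h ^ (M - 1) := inv_eq_of_mul_eq_one_left (by
    rw [← pow_succ, show M - 1 + 1 = M by omega, hM])
  refine ⟨m + j + m * (m * (M - 1)), (a ^ (m * (m * (M - 1)))) ^ (M - 1) * c, (a ^ (m * (M - 1))) ^ (M - 1) * d, ?_⟩
  calc t * f (a * x) * t = (t * h) * f x * (h⁻¹ * t) := by rw [← B.conj]; group
    _ = h ^ m * (t * f x * t) * h ^ (m * (M - 1)) := by rw [hm, hinv, hpow' (M - 1)]; simp only [mul_assoc]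
    _ = h ^ m * h ^ j * (f c * t * (f d * h ^ (m * (M - 1)))) := by rw [hj]; simp only [mul_assoc]
    _ = h ^ m * h ^ j * (f c * (t * h ^ (m * (M - 1))) * f ((a ^ (m * (M - 1))) ^ (M - 1) * d)) := by
      rw [B.move hM0 hM]; simp only [mul_assoc]
    _ = h ^ m * h ^ j * ((f c * h ^ (m * (m * (M - 1)))) * t * f ((a ^ (m * (M - 1))) ^ (M - 1) * d)) := by
      rw [hpow]; simp only [mul_assoc]
    _ = _ := by rw [B.move hM0 hM, pow_add, pow_add]; simp only [mul_assoc]

theorem inCell_pow (B : BorelData u h a f) (hM0 : 0 < M) (hM : h ^ M = 1) (hth : ∃ m : ℕ, t * h = h ^ m * t)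
    (htt : ∃ s : ℕ, t * t = h ^ s) {x : F} (hx : InCell h t f x) : ∀ i : ℕ, InCell h t f (a ^ i * x)
  | 0 => by rwa [pow_zero, one_mul]
  | i + 1 => by rw [pow_succ', mul_assoc]; exact inCell_smul B hM0 hM hth htt (inCell_pow B hM0 hM hth htt hx i)

/-- The normal form bound. -/
theorem card_bound [Fintype F] (B : BorelData u h a f) (hM0 : 0 < M) (hM : h ^ M = 1)
    (hgen : Subgroup.closure {u, h, t} = ⊤) (hth : ∃ m : ℕ, t * h = h ^ m * t) (htt : ∃ s : ℕ, t * t = h ^ s)
    (hcell : ∀ x : F, x ≠ 0 → InCell h t f x) :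
    Finite G ∧ Nat.card G ≤ M * (Fintype.card F * (Fintype.card F + 1)) := by
  classical
  obtain ⟨m, hm⟩ := hth
  obtain ⟨s, hs⟩ := htt
  have hpow : ∀ r : ℕ, t * h ^ r = h ^ (m * r) * t := by
    intro r
    induction r with
    | zero => simp
    | succ r ih => rw [pow_succ, ← mul_assoc, ih, mul_assoc, hm, ← mul_assoc, ← pow_add, Nat.mul_succ]
  let φ : Fin M × F × Option F → G := fun p =>
    h ^ (p.1 : ℕ) * (f p.2.1 * p.2.2.elim 1 (fun y => t * f y))
  have mem : ∀ (j : ℕ) (x : F) (o : Option F), h ^ j * (f x * o.elim 1 (fun y => t * f y)) ∈ Set.range φ := by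
    intro j x o
    refine ⟨(⟨j % M, Nat.mod_lt _ hM0⟩, x, o), ?_⟩
    show h ^ (j % M) * _ = _
    rw [← pow_eq_pow_mod j hM]
  have Hh : ∀ z ∈ Set.range φ, h * z ∈ Set.range φ := by
    rintro z ⟨⟨i, x, o⟩, rfl⟩
    show h * (h ^ (i : ℕ) * _) ∈ _
    rw [← mul_assoc, ← pow_succ']
    exact mem _ _ _
  have Hu : ∀ z ∈ Set.range φ, u * z ∈ Set.range φ := by
    rintro z ⟨⟨i, x, o⟩, rfl⟩
    show u * (h ^ (i : ℕ) * (f x * _)) ∈ _
    rw [← B.one, ← mul_assoc, B.move hM0 hM, mul_assoc, ← mul_assoc (f _) (f x), ← B.add]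
    exact mem _ _ _
  have Ht : ∀ z ∈ Set.range φ, t * z ∈ Set.range φ := by
    rintro z ⟨⟨i, x, o⟩, rfl⟩
    show t * (h ^ (i : ℕ) * (f x * _)) ∈ _
    rw [← mul_assoc, hpow, mul_assoc]
    rcases o with _ | y
    · show h ^ _ * (t * (f x * 1)) ∈ _
      have := mem (m * i) 0 (some x)
      simpa [B.zero] using this
    · show h ^ _ * (t * (f x * (t * f y))) ∈ _
      rcases eq_or_ne x 0 with rfl | hx
      · rw [B.zero, one_mul, ← mul_assoc t, hs, ← mul_assoc, ← pow_add]
        have := mem (m * i + s) y none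
        simpa using this
      · obtain ⟨j, c, d, hj⟩ := hcell x hx
        rw [show t * (f x * (t * f y)) = (t * f x * t) * f y by simp only [mul_assoc], hj]
        simp only [mul_assoc]
        rw [← B.add, ← mul_assoc (h ^ (m * i)), ← pow_add]
        exact mem _ c (some (d + y))
  have hone : (1 : G) ∈ Set.range φ := by simpa [B.zero] using mem 0 0 none
  have hiter : ∀ g : G, (∀ z ∈ Set.range φ, g * z ∈ Set.range φ) → ∀ n : ℕ, ∀ z ∈ Set.range φ,
      g ^ n * z ∈ Set.range φ := by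
    intro g hg n
    induction n with
    | zero => simp
    | succ n ih => intro z hz; rw [pow_succ', mul_assoc]; exact hg _ (ih z hz)
  have hinv : ∀ g : G, (∀ z ∈ Set.range φ, g * z ∈ Set.range φ) → (∃ n, 0 < n ∧ g ^ n = 1) →
      ∀ z ∈ Set.range φ, g⁻¹ * z ∈ Set.range φ := by
    rintro g hg ⟨n, hn, hgn⟩ z hz
    have : g⁻¹ = g ^ (n - 1) := inv_eq_of_mul_eq_one_left (by
      rw [← pow_succ, show n - 1 + 1 = n by omega, hgn])
    rw [this]
    exact hiter g hg _ z hz
  have hsurj : Function.Surjective φ := by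
    intro g
    have hg : g ∈ Subgroup.closure {u, h, t} := by rw [hgen]; exact Subgroup.mem_top g
    induction hg using Subgroup.closure_induction_left with
    | one => exact hone
    | mul_left x hx y _ hy =>
      rcases hx with rfl | rfl | rfl
      · exact Hu _ hy
      · exact Hh _ hy
      · exact Ht _ hy
    | inv_mul_cancel x hx y _ hy =>
      rcases hx with rfl | rfl | rfl
      · refine hinv _ Hu ⟨Fintype.card F, Fintype.card_pos, ?_⟩ _ hy
        rw [← B.one, ← B.nsmul, card_nsmul_eq_zero, B.zero]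
      · exact hinv _ Hh ⟨M, hM0, hM⟩ _ hy
      · refine hinv _ Ht ⟨2 * M, by omega, ?_⟩ _ hy
        rw [pow_mul, pow_two, hs, ← pow_mul, mul_comm, pow_mul, hM, one_pow]
  refine ⟨Finite.of_surjective φ hsurj, (Nat.card_le_card_of_surjective φ hsurj).trans ?_⟩
  simp [Nat.card_eq_fintype_card]

end Cfsg.Agent.Lib.PresSL2
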