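import Cfsg.Agent.Lib.PresSL2.Borel

/-! Groups satisfying the short presentations of `SL₂(q)` and `PSL₂(q)`, `q` odd. -/

set_option autoImplicit false

open Polynomial

namespace Cfsg.Agent.Lib.PresSL2

variable {G H : Type*} [Group G] [Group H]

/-- The five Borel relators. -/
def borelRels (u h : G) (p k : ℕ) (b : Bool) (cs : List ℕ) : List G :=
  [u ^ p, u * cj u h 1 * u⁻¹ * (cj u h 1)⁻¹, u * cj u h 2 * u⁻¹ * (cj u h 2)⁻¹,
    (if b then cj u h 1 * u else cj u h k * (u * (cj u h 1 * cj u h 1) * cj u h 2)⁻¹), polyWord u h cs]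

/-- The four torus relators for `SL₂`. -/
def slRels (u h t x y : G) (N : ℕ) : List G :=
  [h ^ N * (t * t)⁻¹, h * t * h * t⁻¹, u * t * u * t * u * t, x * t * y * t * x * t * h⁻¹]

/-- The four torus relators for `PSL₂`, `q ≡ 3 (mod 4)`. -/
def pslRelsA (u h t : G) (N : ℕ) : List G := [h ^ N, t * t, h * t * (h * t), u * t * u * t * u * t]

/-- The four torus relators for `PSL₂`, `q ≡ 1 (mod 4)`. -/
def pslRelsB (u h t x y : G) (N e f : ℕ) : List G :=
  [h ^ N * (t * t)⁻¹, h * t * (h * t), u * t * u * t * u * t * ((h ^ N) ^ e)⁻¹,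
    x * t * y * t * x * t * (h * (h ^ N) ^ f)⁻¹]

theorem map_borelRels (φ : G →* H) (u h : G) (p k : ℕ) (b : Bool) (cs : List ℕ) :
    (borelRels u h p k b cs).map φ = borelRels (φ u) (φ h) p k b cs := by
  cases b <;> simp [borelRels, map_polyWord, map_cj]

theorem map_slRels (φ : G →* H) (u h t x y : G) (N : ℕ) :
    (slRels u h t x y N).map φ = slRels (φ u) (φ h) (φ t) (φ x) (φ y) N := by simp [slRels]

theorem map_pslRelsA (φ : G →* H) (u h t : G) (N : ℕ) :
    (pslRelsA u h t N).map φ = pslRelsA (φ u) (φ h) (φ t) N := by simp [pslRelsA]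

theorem map_pslRelsB (φ : G →* H) (u h t x y : G) (N e f : ℕ) :
    (pslRelsB u h t x y N e f).map φ = pslRelsB (φ u) (φ h) (φ t) (φ x) (φ y) N e f := by simp [pslRelsB]

variable {F : Type*} [Field F] {p : ℕ} [Fact p.Prime] [Algebra (ZMod p) F]

theorem borelRels_data {u h : G} {a : F} {k : ℕ} {b : Bool} {cs : List ℕ}
    (hrel : ∀ r ∈ borelRels u h p k b cs, r = 1)
    (hsurj : Function.Surjective (aeval a : (ZMod p)[X] → F)) {m : (ZMod p)[X]}
    (hdvd : ∀ P, aeval a P = 0 → m ∣ P) (hcs : horner (X : (ZMod p)[X]) cs = m) :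
    ∃ f : F → G, BorelData u h a f := by
  simp only [borelRels, List.forall_mem_cons] at hrel
  obtain ⟨hp, h1, h2, h4, h5, -⟩ := hrel
  have c : ∀ {x y : G}, x * y * x⁻¹ * y⁻¹ = 1 → Commute x y := fun {x y} e => by
    have := mul_inv_eq_one.mp e
    exact mul_inv_eq_iff_eq_mul.mp this
  refine exists_borelData hp ?_ hsurj hdvd hcs h5
  cases b with
  | true => exact comm_all_inv (by simpa using h4)
  | false => exact comm_all_two (mul_inv_eq_one.mp (by simpa using h4)) (c h1) (c h2)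

theorem borelRels_sat [CharP F p] {u h : G} {a : F} {f : F → G} (B : BorelData u h a f) {k : ℕ} {b : Bool}
    (hk : if b then a = -1 else a ^ k = (a + 1) ^ 2) {cs : List ℕ} (hcs : horner a cs = 0) :
    ∀ r ∈ borelRels u h p k b cs, r = 1 := by
  have hcj : ∀ i, cj u h i = f (a ^ i) := fun i => B.conj_pow' i
  have hcomm : ∀ x y, f x * f y * (f x)⁻¹ * (f y)⁻¹ = 1 := fun x y => by
    rw [← B.add, add_comm, B.add]; group
  simp only [borelRels, List.forall_mem_cons, hcj]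
  refine ⟨?_, ?_, ?_, ?_, ?_, by simp⟩
  · rw [← B.one, ← B.nsmul, nsmul_one, CharP.cast_eq_zero, B.zero]
  · rw [← B.one]; exact hcomm _ _
  · rw [← B.one]; exact hcomm _ _
  · cases b with
    | true =>
      rw [if_pos rfl] at hk ⊢
      rw [← B.one, ← B.add, pow_one, hk, neg_add_cancel, B.zero]
    | false =>
      rw [if_neg Bool.false_ne_true] at hk ⊢
      rw [mul_inv_eq_one, hk, ← B.one, ← B.add, ← B.add, ← B.add]
      congr 1; ring
  · rw [B.polyWord, hcs, B.zero]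

variable [Fintype F] {u h t : G} {a y : F} {f : F → G} {N : ℕ}

omit [Fact p.Prime] [Algebra (ZMod p) F] in
theorem bound_of_cover (B : BorelData u h a f) {M : ℕ} (hM0 : 0 < M) (hM : h ^ M = 1)
    (hgen : Subgroup.closure {u, h, t} = ⊤) (hth : ∃ m : ℕ, t * h = h ^ m * t) (htt : ∃ s : ℕ, t * t = h ^ s)
    (hu : ∃ j : ℕ, u * t * u * t * u * t = h ^ j) (hy : InCell h t f y)
    (hcover : ∀ x : F, x ≠ 0 → ∃ i : ℕ, x = a ^ i ∨ x = a ^ i * y) :
    Finite G ∧ Nat.card G ≤ M * (Fintype.card F * (Fintype.card F + 1)) := by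
  refine card_bound B hM0 hM hgen hth htt fun x hx => ?_
  have h1 : InCell h t f 1 := by
    refine inCell_of_word B hM0 hM htt (x := 1) (y := 1) ?_
    simpa [B.one] using hu
  obtain ⟨i, rfl | rfl⟩ := hcover x hx
  · simpa using inCell_pow B hM0 hM hth htt h1 i
  · exact inCell_pow B hM0 hM hth htt hy i

omit [Fact p.Prime] [Algebra (ZMod p) F] in
theorem sl_bound (B : BorelData u h a f) (hN : 0 < N) (hgen : Subgroup.closure {u, h, t} = ⊤) {x : F}
    (hrel : ∀ r ∈ slRels u h t (f x) (f y) N, r = 1)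
    (hcover : ∀ x : F, x ≠ 0 → ∃ i : ℕ, x = a ^ i ∨ x = a ^ i * y) :
    Finite G ∧ Nat.card G ≤ 2 * N * (Fintype.card F * (Fintype.card F + 1)) := by
  simp only [slRels, List.forall_mem_cons] at hrel
  obtain ⟨h6, h7, h8, h9, -⟩ := hrel
  have hz : h ^ N = t * t := mul_inv_eq_one.mp h6
  have e7 : MulAut.conj t h = h⁻¹ := by
    rw [MulAut.conj_apply]
    calc t * h * t⁻¹ = h⁻¹ * (h * t * h * t⁻¹) := by group
      _ = h⁻¹ := by rw [h7, mul_one]
  have hM : h ^ (2 * N) = 1 := by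
    have e : MulAut.conj t (h ^ N) = h ^ N := by rw [hz, MulAut.conj_apply]; group
    rw [map_pow, e7, inv_pow] at e
    rw [two_mul, pow_add]
    nth_rewrite 1 [← e]
    exact inv_mul_cancel _
  refine bound_of_cover B (by omega) hM hgen ⟨2 * N - 1, ?_⟩ ⟨N, hz.symm⟩ ⟨0, by rw [pow_zero]; exact h8⟩ ?_ hcover
  · have : h⁻¹ = h ^ (2 * N - 1) := inv_eq_of_mul_eq_one_left (by
      rw [← pow_succ, show 2 * N - 1 + 1 = 2 * N by omega, hM])
    rw [← this, ← e7, MulAut.conj_apply]; group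
  · exact inCell_of_word B (by omega) hM ⟨N, hz.symm⟩ ⟨1, by rw [pow_one]; exact mul_inv_eq_one.mp h9⟩

omit [Fact p.Prime] [Algebra (ZMod p) F] in
theorem pslA_bound (B : BorelData u h a f) (hN : 0 < N) (hgen : Subgroup.closure {u, h, t} = ⊤)
    (hrel : ∀ r ∈ pslRelsA u h t N, r = 1)
    (hcover : ∀ x : F, x ≠ 0 → ∃ i : ℕ, x = a ^ i ∨ x = a ^ i * -1) :
    Finite G ∧ Nat.card G ≤ N * (Fintype.card F * (Fintype.card F + 1)) := by
  simp only [pslRelsA, List.forall_mem_cons] at hrel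
  obtain ⟨hM, htt, h7, h8, -⟩ := hrel
  have ht : t⁻¹ = t := inv_eq_of_mul_eq_one_left htt
  have hh : h⁻¹ = h ^ (N - 1) := inv_eq_of_mul_eq_one_left (by
    rw [← pow_succ, show N - 1 + 1 = N by omega, hM])
  have hth : t * h = h ^ (N - 1) * t := by
    rw [← hh]
    calc t * h = h⁻¹ * (h * t * (h * t)) * t⁻¹ := by group
      _ = h⁻¹ * t := by rw [h7, mul_one, ht]
  refine bound_of_cover B hN hM hgen ⟨_, hth⟩ ⟨0, by rw [pow_zero]; exact htt⟩ ⟨0, by rw [pow_zero]; exact h8⟩ ?_ hcover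
  refine inCell_of_word B hN hM ⟨0, by rw [pow_zero]; exact htt⟩ (x := -1) ⟨0, ?_⟩
  rw [pow_zero, B.neg, B.one]
  calc u⁻¹ * t * u⁻¹ * t * u⁻¹ * t = t⁻¹ * (u * t * u * t * u * t)⁻¹ * t := by
        simp only [mul_inv_rev, ht, mul_assoc, htt]
        rw [show t * (t * (u⁻¹ * (t * (u⁻¹ * (t * (u⁻¹ * t)))))) = (t * t) * (u⁻¹ * (t * (u⁻¹ * (t * (u⁻¹ * t))))) by
          group, htt, one_mul]
    _ = 1 := by rw [h8]; group

theorem pull_three {A B C c t : G} (hc : ∀ x, c * x = x * c) :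
    A * (c * t) * B * (c * t) * C * (c * t) = c ^ 3 * (A * t * B * t * C * t) := by
  have l : ∀ X Y : G, X * (c * Y) = c * (X * Y) := fun X Y => by rw [← mul_assoc, ← hc X, mul_assoc]
  simp only [mul_assoc]
  rw [l C, l t, l B, l B, l t, l t, l A, l A, l A, pow_three]
  group

omit [Fact p.Prime] [Algebra (ZMod p) F] [Fintype F] in
/-- The central element of `pslRelsB` is trivial. -/
theorem z_eq_one (B : BorelData u h a f) {i : ℕ} (hN : N = 2 * i) (hai : a ^ i = -1)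
    (hgen : Subgroup.closure {u, h, t} = ⊤) (hz : h ^ N = t * t) (h7 : h * t * (h * t) = 1) {x y : F} {j e : ℕ}
    (hw : f x * t * f y * t * f x * t = h ^ j * (h ^ N) ^ e) (he : (2 * e : ℤ) - 3 * i - 6 - j = 1) :
    h ^ N = 1 := by
  set z := h ^ N with hzdef
  have hzc : ∀ g : G, z * g = g * z := by
    have : Subgroup.closure {u, h, t} ≤ Subgroup.centralizer ({z} : Set G) := by
      rw [Subgroup.closure_le]
      rintro g (rfl | rfl | rfl)
      · rw [SetLike.mem_coe, Subgroup.mem_centralizer_singleton_iff, ← B.one]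
        rw [hzdef, B.conj_pow, mul_one, show a ^ N = 1 by rw [hN, pow_mul', hai, neg_one_sq]]
      · exact Subgroup.mem_centralizer_singleton_iff.mpr (pow_mul_comm' _ _).symm
      · rw [SetLike.mem_coe, Subgroup.mem_centralizer_singleton_iff, hz, mul_assoc]
    rw [hgen] at this
    exact fun g => (Subgroup.mem_centralizer_singleton_iff.mp (this (Subgroup.mem_top g))).symm
  have hzc' : ∀ (n : ℤ) (g : G), Commute (z ^ n) g := fun n g => Commute.zpow_left (hzc g) n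
  have hzh : Commute h z := (hzc h).symm
  have hc : t * h * t⁻¹ = h⁻¹ * z⁻¹ := by
    rw [hz]
    calc t * h * t⁻¹ = h⁻¹ * (h * t * (h * t)) * (t * t)⁻¹ := by group
      _ = _ := by rw [h7, mul_one]
  have hc' : t⁻¹ * h * t = h⁻¹ * z⁻¹ := by
    calc t⁻¹ * h * t = (t * t)⁻¹ * ((t * h * t⁻¹) * (t * t)) := by group
      _ = _ := by rw [← hz, hc, ← hzc, inv_mul_cancel_left]
  set g := h ^ i with hg
  have hgg : g * g = z := by rw [hg, ← pow_add, hzdef, hN, two_mul]
  have hgt : MulAut.conj g t = z ^ (i + 1) * t := by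
    have e1 : MulAut.conj t g = g⁻¹ * (z ^ i)⁻¹ := by
      rw [hg, map_pow, MulAut.conj_apply, hc, (hzh.inv_inv).mul_pow, inv_pow, inv_pow]
    rw [MulAut.conj_apply] at e1 ⊢
    calc g * t * g⁻¹ = g * (t * g * t⁻¹)⁻¹ * t := by group
      _ = g * (z ^ i * g) * t := by rw [e1]; group
      _ = _ := by rw [((hzh.pow_left i).symm.pow_left i).eq, ← mul_assoc g g, hgg, pow_succ']
  have hgf : ∀ w, MulAut.conj g (f w) = f (-w) := fun w => by
    rw [MulAut.conj_apply, B.conj_pow, mul_inv_cancel_right, hai, neg_one_mul]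
  -- conjugating by `g`
  have A1 : f (-x) * t * f (-y) * t * f (-x) * t = (z ^ (i + 1)) ^ (-3 : ℤ) * (h ^ j * z ^ e) := by
    have e2 := congrArg (MulAut.conj g) hw
    simp only [map_mul, hgf, hgt] at e2
    rw [pull_three (fun w => (Commute.pow_left (hzc w) (i + 1)).eq)] at e2
    have e3 : MulAut.conj g (h ^ j) = h ^ j := by
      rw [MulAut.conj_apply, hg, ← pow_mul_comm h j i, mul_inv_cancel_right]
    have e4 : MulAut.conj g (z ^ e) = z ^ e := by
      rw [map_pow, MulAut.conj_apply, ← hzc, mul_inv_cancel_right]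
    rw [e3, e4] at e2
    rw [← e2]; group
  -- inverting
  have A2 : f (-x) * t * f (-y) * t * f (-x) * t = z ^ (3 : ℤ) * (h ^ j * z ^ j) * (z ^ e)⁻¹ := by
    have e5 : MulAut.conj t⁻¹ (h ^ j)⁻¹ = h ^ j * z ^ j := by
      rw [map_inv, map_pow, MulAut.conj_apply, inv_inv, hc', (hzh.inv_inv).mul_pow, inv_pow, inv_pow, mul_inv_rev,
        inv_inv, inv_inv]
      exact ((hzh.pow_pow j j).symm).eq
    have ht : t⁻¹ = z⁻¹ * t := by rw [hz]; group
    have e6 := congrArg (fun w : G => MulAut.conj t⁻¹ w⁻¹) hw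
    simp only [mul_inv_rev, ← B.neg] at e6
    rw [map_mul (MulAut.conj t⁻¹) ((z ^ e)⁻¹), e5] at e6
    have e7 : MulAut.conj t⁻¹ (z ^ e)⁻¹ = (z ^ e)⁻¹ := by
      rw [MulAut.conj_apply, inv_inv]
      rw [mul_assoc, ← zpow_natCast, ← zpow_neg, (hzc' _ t).eq, inv_mul_cancel_left]
    rw [e7, MulAut.conj_apply, inv_inv] at e6
    rw [show t⁻¹ * (t⁻¹ * (f (-x) * (t⁻¹ * (f (-y) * (t⁻¹ * f (-x)))))) * t =
      t⁻¹ * t⁻¹ * f (-x) * t⁻¹ * f (-y) * t⁻¹ * f (-x) * t by group] at e6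
    rw [show t⁻¹ * t⁻¹ = z⁻¹ by rw [hz]; group] at e6
    have hzi : ∀ w : G, z⁻¹ * w = w * z⁻¹ := fun w => (Commute.inv_left (hzc w)).eq
    rw [ht] at e6
    calc f (-x) * t * f (-y) * t * f (-x) * t
        = z ^ (3 : ℤ) * (z⁻¹ * f (-x) * (z⁻¹ * t) * f (-y) * (z⁻¹ * t) * f (-x) * t) := by
          have e8 : ∀ X, X * (z⁻¹ * t) = z⁻¹ * (X * t) := fun X => by rw [← mul_assoc, ← hzi X, mul_assoc]
          rw [e8]
          simp only [mul_assoc z⁻¹]
          rw [e8]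
          group
      _ = z ^ (3 : ℤ) * ((z ^ e)⁻¹ * (h ^ j * z ^ j)) := by rw [e6]
      _ = _ := by rw [show (z ^ e)⁻¹ * (h ^ j * z ^ j) = (h ^ j * z ^ j) * (z ^ e)⁻¹ from
        ((Commute.pow_left (hzc _) e).inv_left).eq, mul_assoc (z ^ (3 : ℤ))]
  have key := A1.symm.trans A2
  have hcj : ∀ n : ℤ, z ^ n * h ^ j = h ^ j * z ^ n := fun n => (hzc' n _).eq
  rw [← zpow_natCast z (i + 1), ← zpow_natCast z e, ← zpow_natCast z j, ← zpow_mul, ← mul_assoc, hcj, ← mul_assoc,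
    hcj, mul_assoc, mul_assoc, mul_assoc, ← zpow_add, ← zpow_neg, ← zpow_add, ← zpow_add] at key
  have key2 : z ^ ((((i + 1 : ℕ) : ℤ) * (-3) + e) - (3 + (j + -(e : ℤ)))) = 1 := by
    rw [zpow_sub, mul_left_cancel key, mul_inv_cancel]
  rwa [show (((i + 1 : ℕ) : ℤ) * (-3) + e) - (3 + (j + -(e : ℤ))) = 1 by push_cast; linarith, zpow_one] at key2

omit [Fact p.Prime] [Algebra (ZMod p) F] in
theorem pslB_bound (B : BorelData u h a f) {i e e' : ℕ} (hN : N = 2 * i) (hN0 : 0 < N) (hai : a ^ i = -1)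
    (hgen : Subgroup.closure {u, h, t} = ⊤) {x : F} (hrel : ∀ r ∈ pslRelsB u h t (f x) (f y) N e e', r = 1)
    (he : (2 * e : ℤ) - 3 * i - 6 = 1 ∨ (2 * e' : ℤ) - 3 * i - 7 = 1)
    (hcover : ∀ x : F, x ≠ 0 → ∃ i : ℕ, x = a ^ i ∨ x = a ^ i * y) :
    Finite G ∧ Nat.card G ≤ N * (Fintype.card F * (Fintype.card F + 1)) := by
  simp only [pslRelsB, List.forall_mem_cons] at hrel
  obtain ⟨h6, h7, h8, h9, -⟩ := hrel
  have hz : h ^ N = t * t := mul_inv_eq_one.mp h6
  have w8 : u * t * u * t * u * t = (h ^ N) ^ e := mul_inv_eq_one.mp h8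
  have w9 : f x * t * f y * t * f x * t = h * (h ^ N) ^ e' := mul_inv_eq_one.mp h9
  have hM : h ^ N = 1 := by
    rcases he with he | he
    · exact z_eq_one B hN hai hgen hz h7 (x := 1) (y := 1) (j := 0) (e := e)
        (by rw [pow_zero, one_mul, B.one]; exact w8) (by push_cast; linarith)
    · exact z_eq_one B hN hai hgen hz h7 (x := x) (y := y) (j := 1) (e := e')
        (by rw [pow_one]; exact w9) (by push_cast; linarith)
  rw [hM, one_pow] at w8
  rw [hM, one_pow, mul_one] at w9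
  have htt : t * t = 1 := hz.symm.trans hM
  have ht : t⁻¹ = t := inv_eq_of_mul_eq_one_left htt
  have hh : h⁻¹ = h ^ (N - 1) := inv_eq_of_mul_eq_one_left (by
    rw [← pow_succ, show N - 1 + 1 = N by omega, hM])
  have hth : t * h = h ^ (N - 1) * t := by
    rw [← hh]
    calc t * h = h⁻¹ * (h * t * (h * t)) * t⁻¹ := by group
      _ = h⁻¹ * t := by rw [h7, mul_one, ht]
  exact bound_of_cover B hN0 hM hgen ⟨_, hth⟩ ⟨0, by rw [pow_zero]; exact htt⟩ ⟨0, by rw [pow_zero]; exact w8⟩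
    (inCell_of_word B hN0 hM ⟨0, by rw [pow_zero]; exact htt⟩ ⟨1, by rw [pow_one]; exact w9⟩) hcover

end Cfsg.Agent.Lib.PresSL2
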